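import Cfsg.Agent.H41.SUSix.Elts

/-!
A commutative subgroup of exponent three of SU6(2) is conjugate to a group of diagonal matrices.
-/

set_option autoImplicit false

namespace Cfsg.Agent.H41.SUSix

open Cfsg Cfsg.Agent.Unitary Matrix

/-- A subspace invariant under a group of elements. -/
def Invariant (E : Subgroup ↥SG) (W : Submodule K4 Vec) : Prop :=
  ∀ x ∈ E, ∀ u ∈ W, ap x u ∈ W

theorem split_one (E : Subgroup ↥SG) (hc : ∀ x ∈ E, ∀ y ∈ E, x * y = y * x)
    (h3 : ∀ x ∈ E, x * x * x = 1) {W : Submodule K4 Vec} (hW : Nondeg 2 W) (hne : W ≠ ⊥)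
    (hinv : Invariant E W) {x : ↥SG} (hx : x ∈ E) :
    ∃ W' ≤ W, Nondeg 2 W' ∧ W' ≠ ⊥ ∧ Invariant E W' ∧ ∃ c : K4, ∀ u ∈ W', ap x u = c • u := by
  let Wl : K4 → Submodule K4 Vec := fun l =>
    { carrier := {u | u ∈ W ∧ ap x u = l • u}
      add_mem' := fun {a b} ha hb => ⟨W.add_mem ha.1 hb.1, by rw [ap_add, ha.2, hb.2, smul_add]⟩
      zero_mem' := ⟨W.zero_mem, by rw [ap_zero, smul_zero]⟩
      smul_mem' := fun c a ha => ⟨W.smul_mem c ha.1, by rw [ap_smul, ha.2, smul_comm]⟩ }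
  have h1 : ∀ u, ap x (ap x (ap x u)) = u := fun u => by rw [← ap_mul, ← ap_mul, h3 x hx, ap_one]
  let q : K4 → Vec → Vec := fun l u => u + (l * l) • ap x u + l • ap x (ap x u)
  have hq : ∀ l : K4, l ≠ 0 → ∀ u ∈ W, q l u ∈ Wl l := by
    intro l hl u hu
    refine ⟨W.add_mem (W.add_mem hu (W.smul_mem _ (hinv x hx u hu)))
      (W.smul_mem _ (hinv x hx _ (hinv x hx u hu))), ?_⟩
    have hl3 : l * (l * l) = 1 := by rw [← sq]; exact cube_eq_one hl
    simp only [q, ap_add, ap_smul, h1, smul_add, smul_smul, hl3, one_smul]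
    abel
  have hsum : ∀ u, q 1 u + q ω₄ u + q (ω₄ * ω₄) u = u := by
    intro u
    funext i
    simp only [q, Pi.add_apply, Pi.smul_apply, smul_eq_mul]
    have : ∀ a b c : K4, a + 1 * 1 * b + 1 * c + (a + ω₄ * ω₄ * b + ω₄ * c) +
        (a + ω₄ * ω₄ * (ω₄ * ω₄) * b + ω₄ * ω₄ * c) = a := by decide +kernel
    exact this _ _ _
  have hl : ∃ l : K4, l ≠ 0 ∧ Wl l ≠ ⊥ := by
    by_contra hcon
    push Not at hcon
    refine hne ((Submodule.eq_bot_iff W).2 fun u hu => ?_)
    have z : ∀ l : K4, l ≠ 0 → q l u = 0 := fun l hl => by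
      have := hq l hl u hu
      rw [hcon l hl] at this
      exact (Submodule.mem_bot K4).1 this
    rw [← hsum u, z 1 (by decide), z ω₄ (by decide), z (ω₄ * ω₄) (by decide), add_zero, add_zero]
  obtain ⟨l, hl0, hlne⟩ := hl
  refine ⟨Wl l, fun u hu => hu.1, ?_, hlne, ?_, l, fun u hu => hu.2⟩
  · intro u hu horth
    refine hW u hu.1 fun v hv => ?_
    have zero : ∀ m : K4, m ≠ 0 → hermForm 6 K4 2 u (q m v) = 0 := by
      intro m hm
      by_cases hml : m = l
      · exact horth _ (hml ▸ hq m hm v hv)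
      have e := herm_ap x u (q m v)
      rw [hu.2, (hq m hm v hv).2, herm_smul_left, herm_smul_right, ← mul_assoc] at e
      have key : ∀ a b t : K4, a ≠ 0 → b ≠ 0 → b ≠ a → a * b ^ 2 * t = t → t = 0 := by
        decide +kernel
      exact key _ _ _ hl0 hm hml e
    rw [← hsum v, herm_add_right hK, herm_add_right hK, zero 1 (by decide), zero ω₄ (by decide),
      zero (ω₄ * ω₄) (by decide), add_zero, add_zero]
  · intro y hy u hu
    refine ⟨hinv y hy u hu.1, ?_⟩
    rw [← ap_mul, hc x hx y hy, ap_mul, hu.2, ap_smul]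

theorem split_all (E : Subgroup ↥SG) (hc : ∀ x ∈ E, ∀ y ∈ E, x * y = y * x)
    (h3 : ∀ x ∈ E, x * x * x = 1) (l : List ↥E) :
    ∀ W : Submodule K4 Vec, Nondeg 2 W → W ≠ ⊥ → Invariant E W →
      ∃ W' ≤ W, Nondeg 2 W' ∧ W' ≠ ⊥ ∧ Invariant E W' ∧
        ∀ x ∈ l, ∃ c : K4, ∀ u ∈ W', ap (x : ↥SG) u = c • u := by
  induction l with
  | nil => exact fun W h1 h2 h3 => ⟨W, le_rfl, h1, h2, h3, fun x hx => absurd hx (List.not_mem_nil)⟩
  | cons a t ih =>
    intro W h1 h2 hi
    obtain ⟨W1, hle, g1, g2, g3, c, hcs⟩ := split_one E hc h3 h1 h2 hi a.2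
    obtain ⟨W2, hle2, k1, k2, k3, k4⟩ := ih W1 g1 g2 g3
    refine ⟨W2, hle2.trans hle, k1, k2, k3, fun x hx => ?_⟩
    rcases List.mem_cons.1 hx with rfl | hx
    · exact ⟨c, fun u hu => hcs u (hle2 hu)⟩
    · exact k4 x hx

theorem exists_frame (E : Subgroup ↥SG) (hc : ∀ x ∈ E, ∀ y ∈ E, x * y = y * x)
    (h3 : ∀ x ∈ E, x * x * x = 1) :
    ∀ k, k ≤ 6 → ∃ f : Fin k → Vec, ON 2 f ∧
      ∀ x ∈ E, ∀ i, ∃ c : K4, ap x (f i) = c • f i := by
  intro k
  induction k with
  | zero => exact fun _ => ⟨Fin.elim0, fun i => i.elim0, fun _ _ i => i.elim0⟩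
  | succ k ih =>
    intro hk
    obtain ⟨f, hf, he⟩ := ih (by omega)
    let W := perp 2 (Set.range f)
    have hnd : Nondeg 2 W := by
      intro u hu h
      refine eq_zero_of_forall_right hK fun v => ?_
      rw [← sub_add_cancel v (projON 2 f v), herm_add_right hK, h _ (hf.sub_proj_mem_perp v),
        mem_perp_span hK hu (projON_mem v), add_zero]
    have hne : W ≠ ⊥ := by
      intro hb
      have hcompl := hf.isCompl hK
      rw [show perp 2 (Set.range f) = ⊥ from hb] at hcompl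
      replace hcompl := eq_top_of_isCompl_bot hcompl
      · have h := hf.finrank_span
        rw [hcompl, finrank_top, Module.finrank_fin_fun, Fintype.card_fin] at h
        omega
    have hinv : Invariant E W := by
      rintro x hx u hu _ ⟨i, rfl⟩
      obtain ⟨c, hce⟩ := he x hx i
      have h : hermForm 6 K4 2 (ap x u) (ap x (f i)) = hermForm 6 K4 2 u (f i) := herm_ap x u (f i)
      rw [hce, herm_smul_right, hu _ ⟨i, rfl⟩] at h
      refine (mul_eq_zero.1 h).resolve_left fun e => ?_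
      have hz : c = 0 := pow_eq_zero_iff (by norm_num) |>.1 e
      rw [hz, zero_smul] at hce
      have h1 := herm_ap x (f i) (f i)
      rw [hce, herm_zero_left, hf, if_pos rfl] at h1
      exact zero_ne_one h1
    classical
    haveI : Fintype ↥E := Fintype.ofFinite _
    obtain ⟨W', hle, k1, k2, -, k4⟩ :=
      split_all E hc h3 (Finset.univ : Finset ↥E).toList W hnd hne hinv
    obtain ⟨v, hv, hv1⟩ := exists_norm_one hK k1 k2
    refine ⟨Fin.snoc f v, ?_, ?_⟩
    · intro i j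
      refine Fin.lastCases ?_ (fun a => ?_) i <;> refine Fin.lastCases ?_ (fun b => ?_) j
      · simp [hv1]
      · rw [Fin.snoc_last, Fin.snoc_castSucc, if_neg (Fin.castSucc_ne_last b).symm]
        exact hle hv _ ⟨b, rfl⟩
      · rw [Fin.snoc_last, Fin.snoc_castSucc, if_neg (Fin.castSucc_ne_last a)]
        exact (herm_eq_zero_symm hK).1 (hle hv _ ⟨a, rfl⟩)
      · simp only [Fin.snoc_castSucc, Fin.castSucc_inj]
        exact hf a b
    · intro x hx i
      refine Fin.lastCases ?_ (fun a => ?_) i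
      · obtain ⟨c, hcs⟩ := k4 ⟨x, hx⟩ (Finset.mem_toList.2 (Finset.mem_univ _))
        exact ⟨c, by rw [Fin.snoc_last]; exact hcs v hv⟩
      · rw [Fin.snoc_castSucc]
        exact he x hx a

/-- A commutative subgroup of exponent three is conjugate to a diagonal one. -/
theorem exists_diagonalise (E : Subgroup ↥SG) (hc : ∀ x ∈ E, ∀ y ∈ E, x * y = y * x)
    (h3 : ∀ x ∈ E, x * x * x = 1) : ∃ g : ↥SG, ∀ x ∈ E, g⁻¹ * x * g ∈ Dgrp := by
  obtain ⟨f, hf, he⟩ := exists_frame E hc h3 6 le_rfl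
  let U : Mat := Matrix.of fun r c => f c r
  have hcolU : ∀ c, U *ᵥ Pi.single c 1 = f c := fun c => by rw [Matrix.mulVec_single_one]; rfl
  have hU : Preserves 2 U := by
    refine (preserves_iff_transpose_mul hK).2 (Matrix.ext fun i j => ?_)
    rw [Matrix.one_apply, ← hf i j]
    rfl
  let δ := U.det
  have hδ : δ * δ ^ 2 = 1 := hU.det_norm hK
  have hδ0 : δ ≠ 0 := left_ne_zero_of_mul_eq_one hδ
  let e : Vec := Function.update (fun _ => 1) 0 (δ ^ 2)
  have he0 : ∀ c, e c ≠ 0 := fun c => by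
    by_cases h : c = 0
    · subst h; simp only [e]; rw [Function.update_self]; exact pow_ne_zero 2 hδ0
    · simp only [e]; rw [Function.update_of_ne h]; exact one_ne_zero
  have hdet : (U * mono e 1).det = 1 := by
    rw [Matrix.det_mul, det_mono, Finset.prod_update_of_mem (Finset.mem_univ 0),
      Finset.prod_const_one, mul_one, hδ]
  let g : ↥SG := toSU (preserves_mul hU (preserves_mono he0 1)) hdet
  refine ⟨g, fun x hx => ?_⟩
  choose l hl using fun i => he x hx i
  refine ⟨l, ?_⟩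
  have hcol : mat x * mat g = mat g * mono l 1 := by
    refine Matrix.ext_iff_mulVec.2 fun u => ?_
    rw [pi_eq_sum_univ' u, Matrix.mulVec_sum, Matrix.mulVec_sum]
    refine Finset.sum_congr rfl fun c _ => ?_
    rw [Matrix.mulVec_smul, Matrix.mulVec_smul]
    refine congrArg (u c • ·) ?_
    show (mat x * (U * mono e 1)) *ᵥ Pi.single c 1 = (U * mono e 1 * mono l 1) *ᵥ Pi.single c 1
    simp only [← Matrix.mulVec_mulVec, mono_mulVec_single, Equiv.Perm.one_apply, mul_one]
    have hs : ∀ a : K4, U *ᵥ Pi.single c a = a • f c := fun a => by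
      rw [← hcolU c, ← Matrix.mulVec_smul, ← Pi.single_smul', smul_eq_mul, mul_one]
    rw [hs, hs, Matrix.mulVec_smul, ← ap_def, hl, smul_smul]
  rw [mat_mul, mat_mul, mul_assoc, hcol, ← mul_assoc, mat_inv_left, one_mul]

end Cfsg.Agent.H41.SUSix
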