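import Cfsg.Agent.H41.SUSix.Model
import Cfsg.Agent.H41.SUSix.Diag

/-!
A subgroup with the quotient of the model contains, up to conjugation, the monomial group.
-/

set_option autoImplicit false
set_option Elab.async false
set_option maxHeartbeats 1000000
set_option maxRecDepth 20000

namespace Cfsg.Agent.H41.SUSix

open Cfsg Cfsg.Agent.H95 Cfsg.Agent.Unitary Matrix

/-- A subgroup covering the simple group with a centre of order three. -/
structure Cov (K : Subgroup ↥SG) where
  map : ↥K →* Equiv.Perm (Fin 112)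
  range_eq : map.range = UFourThree.chainGrp
  ker_eq : map.ker = Subgroup.center ↥K
  card_center : Nat.card (Subgroup.center ↥K) = 3

theorem dd_prod : ∀ k : Fin 5, ∏ c, dd k c = 1 := by decide +kernel

theorem dd_cube : ∀ (k : Fin 5) (c : Fin 6), dd k c * dd k c * dd k c = 1 := by decide +kernel

/-- The generators of the diagonal group inside the model. -/
def aG (k : Fin 5) : ↥SG := diagG (dd k) (dd_prod k)

theorem aG_mem (k : Fin 5) : aG k ∈ Kg := D_le_K (diagG_mem _ _)

theorem perm_rel : ∀ k l : Fin 5, k ≠ l → ∃ π : Equiv.Perm (Fin 6), Equiv.Perm.sign π = 1 ∧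
    ∀ c, dd k (π⁻¹ c) * dd k c = 1 ∧ dd l (π⁻¹ c) * dd k c = dd l c := by
  decide +kernel

theorem conj_diag (π : Equiv.Perm (Fin 6)) {d d' : Vec} (h : ∏ c, d c = 1) (h' : ∏ c, d' c = 1)
    (e : ∀ c, d (π⁻¹ c) = d' c) : pmG π * diagG d h * (pmG π)⁻¹ = diagG d' h' := by
  rw [mul_inv_eq_iff_eq_mul]
  refine mat_ext ?_
  rw [mat_mul, mat_mul, mat_pmG, diagG, diagG, mat_monoG, mat_monoG, mono_mul, mono_mul, mul_one,
    one_mul]
  congr 1
  funext c
  rw [← e]
  simp

theorem rel_elts (k l : Fin 5) (hkl : k ≠ l) : ∃ n ∈ Mgrp,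
    n * aG k * n⁻¹ = (aG k)⁻¹ ∧ n * aG l * n⁻¹ = aG l * (aG k)⁻¹ := by
  obtain ⟨π, hs, hr⟩ := perm_rel k l hkl
  refine ⟨pmG π, pmG_mem hs, ?_, ?_⟩
  · rw [eq_inv_iff_mul_eq_one]
    have hp : ∏ c, dd k (π⁻¹ c) = 1 := by
      rw [Equiv.prod_comp]; exact dd_prod k
    rw [aG, conj_diag π _ hp fun _ => rfl]
    refine mat_ext ?_
    rw [mat_mul, diagG, diagG, mat_monoG, mat_monoG, mono_mul, mul_one, mat_one, ← mono_one]
    congr 1
    exact funext fun c => (hr c).1
  · rw [eq_mul_inv_iff_mul_eq]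
    have hp : ∏ c, dd l (π⁻¹ c) = 1 := by
      rw [Equiv.prod_comp]; exact dd_prod l
    rw [show aG l = diagG (dd l) (dd_prod l) from rfl,
      conj_diag π _ hp fun _ => rfl]
    refine mat_ext ?_
    rw [mat_mul, aG, diagG, diagG, diagG, mat_monoG, mat_monoG, mat_monoG, mono_mul, mul_one]
    congr 1
    exact funext fun c => (hr c).2

theorem Ebar_le : Ebar ≤ UFourThree.chainGrp := by
  rintro _ ⟨g, -, rfl⟩
  exact thetaK_mem g

theorem Nbar_le : Nbar ≤ UFourThree.chainGrp := by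
  rintro _ ⟨g, -, rfl⟩
  exact thetaK_mem g

theorem card_image {S : Subgroup ↥SG} (hS : S ≤ Kg) (hD : Dgrp ≤ S) :
    Nat.card S = 3 * Nat.card ((S.subgroupOf Kg).map thetaK) := by
  have hk : thetaK.ker ≤ S.subgroupOf Kg := fun z hz =>
    hD (scalar_mem_D ((thetaK_eq_one_iff z).1 hz))
  have h := card_comap thetaK ((S.subgroupOf Kg).map thetaK) (by rintro _ ⟨g, -, rfl⟩; exact ⟨g, rfl⟩)
  rw [Subgroup.comap_map_eq_self hk, card_ker] at h
  rw [← h, Nat.card_congr (Subgroup.subgroupOfEquivOfLe hS).toEquiv]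

theorem Ebar_eq_closure :
    Ebar ≤ Subgroup.closure (Set.range fun k => thetaK ⟨aG k, aG_mem k⟩) := by
  have hm : ∀ k : Fin 5, ∀ n : ℕ, thetaK (⟨aG k, aG_mem k⟩ ^ n) ∈
      Subgroup.closure (Set.range fun k => thetaK ⟨aG k, aG_mem k⟩) := fun k n => by
    rw [map_pow]
    exact pow_mem (Subgroup.subset_closure (Set.mem_range_self k)) n
  rintro _ ⟨⟨g, hgK⟩, ⟨d, hd⟩, rfl⟩
  have hd' : mat g = mono d 1 := hd
  have hp : ∏ c, d c = 1 := by rw [← det_mono d 1, ← hd', det_mat]
  have h := diag_decomp ⟨eV d, eV_lt d⟩ (by rw [dV_eV]; exact hp)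
  simp only [dV_eV] at h
  have ha : ∀ (k : Fin 5) (n : ℕ), mat (aG k ^ n) = mono (fun c => dd k c ^ n) 1 :=
    fun k n => mat_pow_diag rfl n
  have e : (⟨g, hgK⟩ : ↥Kg) = ⟨aG 0, aG_mem 0⟩ ^ lg (d 1) * ⟨aG 1, aG_mem 1⟩ ^ lg (d 2) *
      ⟨aG 2, aG_mem 2⟩ ^ lg (d 3) * ⟨aG 3, aG_mem 3⟩ ^ lg (d 4) *
      ⟨aG 4, aG_mem 4⟩ ^ lg (d 5) := by
    refine Subtype.ext (mat_ext ?_)
    simp only [Subgroup.coe_mul, SubgroupClass.coe_pow, mat_mul, ha, mono_mul, mul_one, hd',
      Equiv.Perm.one_apply]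
    congr 1
    exact funext h
  rw [e]
  simp only [map_mul]
  exact mul_mem (mul_mem (mul_mem (mul_mem (hm 0 _) (hm 1 _)) (hm 2 _)) (hm 3 _)) (hm 4 _)

variable {K : Subgroup ↥SG} (C : Cov K)

theorem Cov.lift {g : ↥Kg} : ∃ x : ↥K, C.map x = thetaK g := by
  have : thetaK g ∈ C.map.range := C.range_eq ▸ thetaK_mem g
  exact this

theorem Cov.central {z : ↥K} (hz : C.map z = 1) (x : ↥K) : z * x = x * z := by
  have : z ∈ Subgroup.center ↥K := C.ker_eq ▸ hz
  exact (Subgroup.mem_center_iff.1 this x).symm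

theorem Cov.cube {z : ↥K} (hz : C.map z = 1) : z * z * z = 1 := by
  have hm : z ∈ Subgroup.center ↥K := C.ker_eq ▸ hz
  have h := pow_card_eq_one' (G := ↥(Subgroup.center ↥K)) (x := ⟨z, hm⟩)
  rw [C.card_center, pow_succ, pow_succ, pow_one] at h
  exact congrArg Subtype.val h

/-- The preimage of the diagonal group. -/
noncomputable def Cov.E : Subgroup ↥K := Ebar.comap C.map

/-- The preimage of the monomial group. -/
noncomputable def Cov.N : Subgroup ↥K := Nbar.comap C.map

theorem Cov.E_facts : (∀ x ∈ C.E, ∀ y ∈ C.E, x * y = y * x) ∧ ∀ x ∈ C.E, x * x * x = 1 := by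
  choose a ha using fun k : Fin 5 => C.lift (g := (⟨aG k, aG_mem k⟩ : ↥Kg))
  have key : ∀ k l, k ≠ l → a k * a l = a l * a k ∧ a k * a k * a k = 1 := by
    intro k l hkl
    obtain ⟨n, hn, e1, e2⟩ := rel_elts k l hkl
    obtain ⟨m, hm⟩ := C.lift (g := ⟨n, M_le_K hn⟩)
    obtain ⟨z1, hz1, f1⟩ : ∃ z, C.map z = 1 ∧ m * a k * m⁻¹ = z * (a k)⁻¹ := by
      refine ⟨m * a k * m⁻¹ * a k, ?_, (mul_inv_cancel_right _ _).symm⟩
      rw [map_mul, map_mul, map_mul, map_inv, hm, ha, ← map_inv, ← map_mul, ← map_mul, ← map_mul,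
        ← map_one thetaK]
      refine congrArg thetaK (Subtype.ext ?_)
      show n * aG k * n⁻¹ * aG k = 1
      rw [e1, inv_mul_cancel]
    obtain ⟨z2, hz2, f2⟩ : ∃ z, C.map z = 1 ∧ m * a l * m⁻¹ = z * (a l * (a k)⁻¹) := by
      refine ⟨m * a l * m⁻¹ * (a k * (a l)⁻¹), ?_, by group⟩
      rw [map_mul, map_mul, map_mul, map_mul, map_inv, map_inv, hm, ha, ha, ← map_inv, ← map_inv,
        ← map_mul, ← map_mul, ← map_mul, ← map_mul, ← map_one thetaK]
      refine congrArg thetaK (Subtype.ext ?_)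
      show n * aG l * n⁻¹ * (aG k * (aG l)⁻¹) = 1
      rw [e2]; group
    obtain ⟨z, hz, f⟩ : ∃ z, C.map z = 1 ∧ a k * a l = z * (a l * a k) := by
      refine ⟨a k * a l * (a l * a k)⁻¹, ?_, (inv_mul_cancel_right _ _).symm⟩
      rw [map_mul, map_inv, map_mul, map_mul, ha, ha, ← map_mul, ← map_mul, ← map_inv, ← map_mul,
        ← map_one thetaK]
      refine congrArg thetaK (Subtype.ext ?_)
      show aG k * aG l * (aG l * aG k)⁻¹ = 1
      have hc : aG k * aG l = aG l * aG k := mat_ext (by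
        simp only [aG, diagG, mat_mul, mat_monoG, mono_mul, mul_one, Equiv.Perm.one_apply, mul_comm])
      rw [hc, mul_inv_cancel]
    have hzz : z * z = 1 := by
      have h := congrArg (fun x => m * x * m⁻¹) f
      have l1 : m * (a k * a l) * m⁻¹ = (m * a k * m⁻¹) * (m * a l * m⁻¹) := by group
      have l2 : m * (z * (a l * a k)) * m⁻¹ = z * ((m * a l * m⁻¹) * (m * a k * m⁻¹)) := by
        rw [← mul_assoc m z, ← C.central hz m]; group
      rw [l1, l2, f1, f2] at h
      have c1 := C.central hz1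
      have c2 := C.central hz2
      have c0 := C.central hz
      have h' : (a k)⁻¹ * (a l * (a k)⁻¹) = z * ((a l * (a k)⁻¹) * (a k)⁻¹) := by
        have hR : z * (z2 * (a l * (a k)⁻¹) * (z1 * (a k)⁻¹)) =
            z2 * z1 * (z * (a l * (a k)⁻¹ * (a k)⁻¹)) := by
          rw [mul_assoc z2 (a l * (a k)⁻¹), ← mul_assoc (a l * (a k)⁻¹) z1, ← c1 (a l * (a k)⁻¹),
            mul_assoc z1, ← mul_assoc z2 z1, ← mul_assoc z, c0 (z2 * z1), mul_assoc]
        have hL : z1 * (a k)⁻¹ * (z2 * (a l * (a k)⁻¹)) =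
            z2 * z1 * ((a k)⁻¹ * (a l * (a k)⁻¹)) := by
          rw [mul_assoc z1, ← mul_assoc ((a k)⁻¹) z2, ← c2 ((a k)⁻¹), mul_assoc z2, ← mul_assoc z1,
            c1 z2]
        rw [hL, hR] at h
        exact mul_left_cancel h
      have h2 : (a k)⁻¹ * a l = z * (a l * (a k)⁻¹) := by
        have := congrArg (· * a k) h'
        simpa [mul_assoc] using this
      have h3 : a l = z * z * a l := by
        calc a l = a k * ((a k)⁻¹ * a l) := by group
          _ = a k * (z * (a l * (a k)⁻¹)) := by rw [h2]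
          _ = z * (a k * a l) * (a k)⁻¹ := by rw [← mul_assoc (a k) z, ← c0 (a k)]; group
          _ = z * z * a l := by rw [f]; group
      exact mul_right_cancel (b := a l) (h3.symm.trans (one_mul _).symm)
    have hz1' : z = 1 := by
      have h3 := C.cube hz
      rwa [hzz, one_mul] at h3
    refine ⟨by rw [f, hz1', one_mul], ?_⟩
    have hw : C.map (a k * a k * a k) = 1 := by
      rw [map_mul, map_mul, ha, ← map_mul, ← map_mul, ← map_one thetaK]
      refine congrArg thetaK (Subtype.ext (mat_ext ?_))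
      show mat (aG k * aG k * aG k) = 1
      rw [aG, diagG, mat_mul, mat_mul, mat_monoG, mono_mul, mono_mul, ← mono_one, mul_one, mul_one]
      congr 1
      funext c
      show dd k c * dd k c * dd k c = 1
      exact dd_cube k c
    set w := a k * a k * a k with hwd
    have h1 : m * w * m⁻¹ = w := by rw [← C.central hw m, mul_inv_cancel_right]
    have h2 : m * w * m⁻¹ = (z1 * (a k)⁻¹) * (z1 * (a k)⁻¹) * (z1 * (a k)⁻¹) := by
      rw [← f1, hwd]; group
    have c1 := C.central hz1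
    have h3 : (z1 * (a k)⁻¹) * (z1 * (a k)⁻¹) * (z1 * (a k)⁻¹) = z1 * z1 * z1 * w⁻¹ := by
      have hcc : Commute z1 (a k)⁻¹ := c1 _
      have := hcc.mul_pow 3
      simp only [pow_succ, pow_zero, one_mul] at this
      rw [this, hwd]
      group
    rw [h1, h3, C.cube hz1, one_mul] at h2
    have hw2 : w * w = 1 := by
      nth_rw 2 [h2]
      exact mul_inv_cancel w
    have h5 := C.cube hw
    rwa [hw2, one_mul] at h5
  have hne : ∀ k : Fin 5, ∃ l, k ≠ l := by decide
  have comm : ∀ k l, a k * a l = a l * a k := fun k l => by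
    by_cases h : k = l
    · rw [h]
    · exact (key k l h).1
  have cube : ∀ k, a k * a k * a k = 1 := fun k => (key k _ (hne k).choose_spec).2
  let S : Set ↥K := Set.range a ∪ {z | C.map z = 1}
  have hgen : C.E ≤ Subgroup.closure S := by
    intro x hx
    have h1 := Ebar_eq_closure (Subgroup.mem_comap.1 hx)
    have h2 : Subgroup.closure (Set.range fun k => thetaK ⟨aG k, aG_mem k⟩) ≤
        (Subgroup.closure S).map C.map :=
      (Subgroup.closure_le _).2 (by
        rintro _ ⟨k, rfl⟩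
        exact ⟨a k, Subgroup.subset_closure (Or.inl ⟨k, rfl⟩), ha k⟩)
    obtain ⟨y, hy, e⟩ := h2 h1
    have hz : C.map (x * y⁻¹) = 1 := by rw [map_mul, map_inv, e, mul_inv_cancel]
    have := mul_mem (Subgroup.subset_closure (show x * y⁻¹ ∈ S from Or.inr hz)) hy
    rwa [inv_mul_cancel_right] at this
  have hS : ∀ x ∈ S, ∀ y ∈ S, x * y = y * x := by
    rintro x (⟨k, rfl⟩ | hx) y (⟨l, rfl⟩ | hy)
    · exact comm k l
    · exact (C.central hy _).symm
    · exact C.central hx _
    · exact C.central hx _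
  have hcomm : ∀ x ∈ Subgroup.closure S, ∀ y ∈ Subgroup.closure S, x * y = y * x := by
    have h1 : ∀ x ∈ S, ∀ y ∈ Subgroup.closure S, x * y = y * x := fun x hx y hy => by
      have : Subgroup.closure S ≤ Subgroup.centralizer {x} := (Subgroup.closure_le _).2 fun s hs =>
        Subgroup.mem_centralizer_singleton_iff.2 (hS s hs x hx)
      exact (Subgroup.mem_centralizer_singleton_iff.1 (this hy)).symm
    intro x hx y hy
    have : Subgroup.closure S ≤ Subgroup.centralizer {y} := (Subgroup.closure_le _).2 fun s hs =>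
      Subgroup.mem_centralizer_singleton_iff.2 (h1 s hs y hy)
    exact Subgroup.mem_centralizer_singleton_iff.1 (this hx)
  refine ⟨fun x hx y hy => hcomm x (hgen hx) y (hgen hy), fun x hx => ?_⟩
  have hx' := hgen hx
  clear hx
  induction hx' using Subgroup.closure_induction with
  | mem s hs =>
    rcases hs with ⟨k, rfl⟩ | hs
    · exact cube k
    · exact C.cube hs
  | one => group
  | mul u v hu hv ihu ihv =>
    have hcc : Commute u v := hcomm u hu v hv
    have := hcc.mul_pow 3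
    simp only [pow_succ, pow_zero, one_mul] at this
    rw [this, ihu, ihv, one_mul]
  | inv u hu ihu =>
    have : u⁻¹ * u⁻¹ * u⁻¹ = (u * u * u)⁻¹ := by group
    rw [this, ihu, inv_one]

theorem Cov.card_E : Nat.card C.E = 243 := by
  have h := card_image D_le_K le_rfl
  rw [card_D] at h
  rw [Cov.E, card_comap C.map _ (C.range_eq ▸ Ebar_le), C.ker_eq, C.card_center]
  exact h.symm

theorem Cov.card_N : Nat.card C.N = 243 * 360 := by
  have h := card_image M_le_K D_le_M
  rw [card_M] at h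
  rw [Cov.N, card_comap C.map _ (C.range_eq ▸ Nbar_le), C.ker_eq, C.card_center]
  exact h.symm

/-- Transport along an isomorphism. -/
noncomputable def Cov.congr {K' : Subgroup ↥SG} (e : ↥K' ≃* ↥K) : Cov K' where
  map := C.map.comp e.toMonoidHom
  range_eq := by
    rw [MonoidHom.range_comp, MonoidHom.range_eq_top.2 e.surjective, ← MonoidHom.range_eq_map,
      C.range_eq]
  ker_eq := by
    ext x
    rw [MonoidHom.mem_ker, MonoidHom.comp_apply, ← MonoidHom.mem_ker, C.ker_eq,
      Subgroup.mem_center_iff, Subgroup.mem_center_iff]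
    constructor
    · intro h y
      refine e.injective ?_
      rw [map_mul, map_mul]
      exact h (e y)
    · intro h y
      obtain ⟨y, rfl⟩ := e.surjective y
      show e y * e x = e x * e y
      rw [← map_mul, ← map_mul, h]
  card_center := by
    rw [Nat.card_congr (Subgroup.centerCongr e).toEquiv, C.card_center]

/-- The preimage of the diagonal group is the diagonal group. -/
def Cov.Std {K : Subgroup ↥SG} (C : Cov K) : Prop :=
  ∀ x : ↥K, C.map x ∈ Ebar ↔ (x : ↥SG) ∈ Dgrp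

theorem Cov.exists_std (C : Cov K) : ∃ (g : ↥SG) (C' : Cov (K.map (MulAut.conj g).toMonoidHom)),
    C'.Std ∧ Dgrp ≤ K.map (MulAut.conj g).toMonoidHom := by
  obtain ⟨hc, h3⟩ := C.E_facts
  let E' := C.E.map K.subtype
  obtain ⟨g, hg⟩ := exists_diagonalise E' (by
      rintro _ ⟨x, hx, rfl⟩ _ ⟨y, hy, rfl⟩
      exact congrArg Subtype.val (hc x hx y hy)) (by
      rintro _ ⟨x, hx, rfl⟩
      exact congrArg Subtype.val (h3 x hx))
  have hcardE : Nat.card E' = 243 := by
    rw [← C.card_E, Nat.card_congr (C.E.equivMapOfInjective _ K.subtype_injective).toEquiv]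
  have hED : E'.map (MulAut.conj g⁻¹).toMonoidHom = Dgrp := by
    refine Subgroup.eq_of_le_of_card_ge ?_ ?_
    · rintro _ ⟨x, hx, rfl⟩
      show g⁻¹ * x * g⁻¹⁻¹ ∈ Dgrp
      rw [inv_inv]
      exact hg x hx
    · rw [card_D, Nat.card_congr
        (E'.equivMapOfInjective _ (MulAut.conj g⁻¹).injective).symm.toEquiv, hcardE]
  let e : ↥(K.map (MulAut.conj g⁻¹).toMonoidHom) ≃* ↥K :=
    (K.equivMapOfInjective _ (MulAut.conj g⁻¹).injective).symm
  have hcoe : ∀ y : ↥(K.map (MulAut.conj g⁻¹).toMonoidHom),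
      (MulAut.conj g⁻¹) (e y : ↥SG) = (y : ↥SG) := fun y => by
    have h := Subgroup.coe_equivMapOfInjective_apply K (MulAut.conj g⁻¹).toMonoidHom
      (MulAut.conj g⁻¹).injective (e y)
    have h2 : (K.equivMapOfInjective (MulAut.conj g⁻¹).toMonoidHom
      (MulAut.conj g⁻¹).injective) (e y) = y := MulEquiv.apply_symm_apply _ y
    rw [h2] at h
    exact h.symm
  refine ⟨g⁻¹, C.congr e, fun y => ?_, ?_⟩
  · show C.map (e y) ∈ Ebar ↔ _
    rw [← hED, ← hcoe]
    constructor
    · exact fun h => ⟨_, ⟨e y, h, rfl⟩, rfl⟩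
    · rintro ⟨_, ⟨x, hx, rfl⟩, ex⟩
      have : x = e y := Subtype.ext ((MulAut.conj g⁻¹).injective ex)
      exact this ▸ hx
  · rw [← hED]
    exact Subgroup.map_mono (Subgroup.map_subtype_le _)

end Cfsg.Agent.H41.SUSix
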