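import Cfsg.Agent.H41.SUSix.Code
import Cfsg.Agent.H41.SUSix.Data

/-!
Kernel checks for the orbits of the model on vectors.
-/

set_option autoImplicit false
set_option Elab.async false
set_option maxRecDepth 100000
set_option maxHeartbeats 1000000

namespace Cfsg.Agent.H41.SUSix

open Cfsg.Agent.Compute

/-- The coded norm of a vector. -/
noncomputable def normC (v : ℕ) : ℕ :=
  Nat.rec 0 (fun i acc => addC acc (mulC (getP 2 v i) (mulC (getP 2 v i) (getP 2 v i)))) 6

/-- The number of non-zero coordinates. -/
noncomputable def wtC (v : ℕ) : ℕ :=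
  Nat.rec 0 (fun i acc => Nat.add acc (cond (Nat.beq (getP 2 v i) 0) 0 1)) 6

/-- The product of the coordinates. -/
noncomputable def prodC (v : ℕ) : ℕ := Nat.rec 1 (fun i acc => mulC acc (getP 2 v i)) 6

/-- The classes of vectors: zero, norm one, the special isotropic vectors, the others. -/
noncomputable def clsC (v : ℕ) : ℕ :=
  cond (Nat.beq v 0) 0
    (cond (Nat.beq (normC v) 1) 1
      (cond (Nat.beq (wtC v) 2 || (Nat.beq (wtC v) 6 && Nat.beq (prodC v) 1)) 2 3))

/-- An entry of the tree. -/
noncomputable def treeC (v : ℕ) : ℕ := getP 24 treeTab v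

/-- The depth in the tree. -/
noncomputable def rankC (v : ℕ) : ℕ := Nat.mod (treeC v) 256

/-- The predecessor in the tree. -/
noncomputable def prevC (v : ℕ) : ℕ := Nat.mod (Nat.div (treeC v) 256) 4096

/-- The generator used in the tree. -/
noncomputable def stepC (v : ℕ) : ℕ := Nat.div (treeC v) 1048576

/-- The check of one entry. -/
noncomputable def entryOK (v root : ℕ) : Bool :=
  Nat.beq v root || (Nat.ble (Nat.add (stepC v) 1) 10 && Nat.ble (Nat.add (rankC (prevC v)) 1) (rankC v) &&
    Nat.beq (clsC (prevC v)) (clsC v) && Nat.beq (mulVecC (nth 0 genTab (stepC v)) (prevC v)) v)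

theorem tree_ok : allN 4096 (fun v =>
    cond (Nat.beq (clsC v) 1) (entryOK v 1) (cond (Nat.beq (clsC v) 3) (entryOK v 85) true)) = true := by
  decide +kernel

theorem special_ok : allN 10 (fun k => allN 4096 (fun v =>
    cond (Nat.beq (clsC v) 2) (Nat.beq (clsC (mulVecC (nth 0 genTab k) v)) 2) true)) = true := by
  decide +kernel

/-- The multiples `e₀ + c v` of a vector supported away from the first coordinate. -/
theorem support_ok : allN 4096 (fun v =>
    cond (Nat.beq (getP 2 v 0) 0 && Nat.beq (clsC v) 1 &&
      allN 3 (fun c => Nat.beq (clsC (Nat.add 1 (scalC (Nat.add c 1) v))) 2))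
      (Nat.beq (wtC v) 1) true) = true := by
  decide +kernel

theorem root_cls : clsC 1 = 1 ∧ clsC 85 = 3 := by decide +kernel

theorem pair_cls : ∀ k : Fin 6, k ≠ 0 → ∀ c : Fin 3,
    clsC (1 + (c.1 + 1) * 4 ^ k.1) = 2 := by decide +kernel

theorem all_one_cls : clsC 1365 = 2 := by decide +kernel

/-- The number of vectors in a class. -/
noncomputable def countC (a : ℕ) : ℕ :=
  Nat.rec 0 (fun v acc => Nat.add acc (cond (Nat.beq (clsC v) a) 1 0)) 4096

theorem count_two : countC 2 = 378 := by decide +kernel

theorem count_three : countC 3 = 1701 := by decide +kernel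

end Cfsg.Agent.H41.SUSix
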