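import Cfsg.Agent.H41.SUSix.Model
import Cfsg.Agent.H41.SUSix.OrbitCheck

/-!
A matrix preserving the form and normalising the model has determinant one.
-/

set_option autoImplicit false
set_option Elab.async false
set_option maxRecDepth 20000
set_option maxHeartbeats 1000000

namespace Cfsg.Agent.H41.SUSix

open Cfsg Cfsg.Agent.Compute Cfsg.Agent.Unitary Matrix

/-- The class of a vector. -/
noncomputable def cls (u : Vec) : ℕ := clsC (eV u)

theorem cls_facts : ∀ v : Fin 4096, (clsC v = 1 ↔ ∑ i, dV v i * dV v i ^ 2 = 1) ∧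
    (clsC v = 0 ↔ ∀ i, dV v i = 0) ∧ clsC v ≤ 3 ∧
    (clsC v = 2 → (∀ i, dV v i ≠ 0) → ∏ i, dV v i = 1) ∧
    (wtC v = 1 → ∃ r, ∀ i, i ≠ r → dV v i = 0) := by
  decide +kernel

theorem shift_code : ∀ v : Fin 4096, getP 2 v 0 = 0 → ∀ c : Fin 3,
    eV (Pi.single 0 1 + fe (c + 1) • dV v) = 1 + scalC (c + 1) v := by
  decide +kernel

theorem pair_code : ∀ k : Fin 6, k ≠ 0 → ∀ c : Fin 3,
    eV (Pi.single 0 1 + fe (c + 1) • Pi.single k 1) = 1 + (c.1 + 1) * 4 ^ k.1 := by
  decide +kernel

theorem root_code : eV (Pi.single 0 1) = 1 ∧ eV (fun _ => 1) = 1365 := by decide +kernel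

theorem facts (u : Vec) : (cls u = 1 ↔ hermForm 6 K4 2 u u = 1) ∧ (cls u = 0 ↔ u = 0) ∧
    cls u ≤ 3 := by
  obtain ⟨h1, h2, h3, -⟩ := cls_facts ⟨eV u, eV_lt u⟩
  simp only [dV_eV] at h1 h2
  exact ⟨h1, h2.trans ⟨fun h => funext h, fun h i => by rw [h]; rfl⟩, h3⟩

theorem reach {a root : ℕ} (hroot : root < 4096) (ha : a = 1 ∧ root = 1 ∨ a = 3 ∧ root = 85) :
    ∀ v < 4096, clsC v = a → ∃ k ∈ Kg, ap k (dV root) = dV v := by
  suffices h : ∀ (n v : ℕ), rankC v = n → v < 4096 → clsC v = a →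
      ∃ k ∈ Kg, ap k (dV root) = dV v from fun v hv hc => h _ v rfl hv hc
  intro n
  induction n using Nat.strong_induction_on with
  | _ n ih =>
    intro v hr hv hc
    have h := (allN_iff _ _).1 tree_ok v hv
    rw [hc] at h
    have h' : entryOK v root = true := by
      rcases ha with ⟨rfl, rfl⟩ | ⟨rfl, rfl⟩ <;> exact h
    rw [entryOK, Bool.or_eq_true, Bool.and_eq_true, Bool.and_eq_true, Bool.and_eq_true,
      Nat.beq_eq, Nat.ble_eq, Nat.ble_eq, Nat.beq_eq, Nat.beq_eq] at h'
    rcases h' with h' | ⟨⟨⟨hg, hk⟩, hcl⟩, hm⟩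
    · subst h'
      exact ⟨1, one_mem _, ap_one _⟩
    · obtain ⟨k, hkK, e⟩ := ih (rankC (prevC v)) (hr ▸ hk) (prevC v) rfl
        (Nat.mod_lt _ (by norm_num)) (hcl.trans hc)
      refine ⟨genG ⟨stepC v, hg⟩ * k, mul_mem (genG_mem _) hkK, ?_⟩
      rw [ap_mul, e, ap_def, mat_genG, ← dV_mulVecC]
      exact congrArg dV hm

theorem special_gen (k : Fin 10) {u : Vec} (h : cls u = 2) : cls (ap (genG k) u) = 2 := by
  have h1 := (allN_iff _ _).1 ((allN_iff _ _).1 special_ok k k.2) (eV u) (eV_lt u)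
  rw [show clsC (eV u) = 2 from h] at h1
  have e : eV (ap (genG k) u) = mulVecC (gC k) (eV u) := by
    refine dV_inj (eV_lt _) (mulVecC_lt _ _) ?_
    rw [dV_eV, dV_mulVecC, dV_eV]
    rfl
  show clsC _ = 2
  rw [e]
  exact Nat.eq_of_beq_eq_true h1

theorem special_inv {k : ↥SG} (hk : k ∈ Kg) : ∀ u, cls u = 2 → cls (ap k u) = 2 := by
  induction hk using Subgroup.closure_induction with
  | mem y hy =>
    obtain ⟨i, rfl⟩ := hy
    exact fun u => special_gen i
  | one => exact fun u h => by rwa [ap_one]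
  | mul a b _ _ ha hb => exact fun u h => by rw [ap_mul]; exact ha _ (hb _ h)
  | inv a _ ha =>
    intro u hu
    have hm : Set.MapsTo (ap a) {u | cls u = 2} {u | cls u = 2} := fun x hx => ha x hx
    obtain ⟨⟨w, hw⟩, e'⟩ := Finite.injective_iff_surjective.1
      (hm.restrict_inj.2 (ap_injective a).injOn) ⟨u, hu⟩
    have e : ap a w = u := congrArg Subtype.val e'
    rw [← e, ap_inv_ap]
    exact hw

theorem countC_eq (a : ℕ) : countC a = ((Finset.range 4096).filter (fun v => clsC v = a)).card := by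
  suffices h : ∀ n, (Nat.rec 0 (fun v acc => Nat.add acc (cond (Nat.beq (clsC v) a) 1 0)) n : ℕ) =
      ((Finset.range n).filter (fun v => clsC v = a)).card from h 4096
  intro n
  induction n with
  | zero => simp
  | succ n ih =>
    rw [Finset.range_add_one, Finset.filter_insert]
    show Nat.add _ _ = _
    rw [ih]
    cases hb : Nat.beq (clsC n) a
    · rw [if_neg (fun e => by rw [e, Nat.beq_refl] at hb; exact Bool.noConfusion hb)]
      rfl
    · rw [if_pos (Nat.eq_of_beq_eq_true hb), Finset.card_insert_of_notMem (by simp)]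
      rfl

theorem det_eq_one_of_fix {U : Mat} (hU : Preserves 2 U)
    (hn : ∀ k ∈ Kg, ∃ k' ∈ Kg, mat k * U = U * mat k')
    (h0 : U *ᵥ Pi.single 0 1 = Pi.single 0 1) : U.det = 1 := by
  have hinj := hU.mulVec_injective hK
  have hspec : ∀ u, cls u = 2 → cls (U *ᵥ u) = 2 := by
    intro u hu
    obtain ⟨f1, f0, f3⟩ := facts (U *ᵥ u)
    obtain ⟨g1, g0, -⟩ := facts u
    have n1 : cls (U *ᵥ u) ≠ 1 := fun e => by
      have := g1.2 ((hU u u).symm.trans (f1.1 e))
      omega
    have n0 : cls (U *ᵥ u) ≠ 0 := fun e => by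
      have := g0.2 (hinj ((f0.1 e).trans (Matrix.mulVec_zero U).symm))
      omega
    by_contra n2
    have e3 : cls (U *ᵥ u) = 3 := by omega
    have hsub : ((Finset.range 4096).filter (fun v => clsC v = 3)) ⊆
        ((Finset.range 4096).filter (fun v => clsC v = 2)).image
          (fun w => eV (U *ᵥ dV w)) := by
      intro v hv
      rw [Finset.mem_filter, Finset.mem_range] at hv
      obtain ⟨k1, hk1, e1⟩ := reach (root := 85) (by norm_num) (Or.inr ⟨rfl, rfl⟩) _
        (eV_lt (U *ᵥ u)) e3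
      obtain ⟨k2, hk2, e2⟩ := reach (root := 85) (by norm_num) (Or.inr ⟨rfl, rfl⟩) v hv.1 hv.2
      obtain ⟨k', hk', e'⟩ := hn _ (mul_mem hk2 (inv_mem hk1))
      rw [dV_eV] at e1
      refine Finset.mem_image.2 ⟨eV (ap k' u), ?_, ?_⟩
      · rw [Finset.mem_filter, Finset.mem_range]
        exact ⟨eV_lt _, special_inv hk' u hu⟩
      · rw [dV_eV, ap_def, Matrix.mulVec_mulVec, ← e', ← Matrix.mulVec_mulVec, ← ap_def, ← e1,
          ap_mul, ap_inv_ap, e2, eV_dV hv.1]
    have hc := (Finset.card_le_card hsub).trans Finset.card_image_le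
    rw [← countC_eq, ← countC_eq, count_two, count_three] at hc
    omega
  have hcol : ∀ c : Fin 6, c ≠ 0 → ∃ r a, U *ᵥ Pi.single c 1 = Pi.single r a := by
    intro c hc
    set v := U *ᵥ Pi.single c 1 with hv
    have h00 : v 0 = 0 := by
      have h := hU (Pi.single c 1) (Pi.single 0 1)
      rw [h0, herm_single_right hK, herm_single_single hK, if_neg hc, ← hv, one_pow, mul_one] at h
      exact h
    have hg : getP 2 (eV v) 0 = 0 := by
      rw [show getP 2 (eV v) 0 = fc (v 0) from getP_eV v 0, h00]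
      rfl
    have h1 : clsC (eV v) = 1 := by
      refine (facts v).1.2 ?_
      rw [hv, hU, herm_single_single hK, if_pos rfl]
    have hw : wtC (eV v) = 1 := by
      have h := (allN_iff _ _).1 support_ok (eV v) (eV_lt v)
      have hcond : (Nat.beq (getP 2 (eV v) 0) 0 && Nat.beq (clsC (eV v)) 1 &&
          allN 3 (fun c => Nat.beq (clsC (Nat.add 1 (scalC (Nat.add c 1) (eV v)))) 2)) = true := by
        rw [hg, h1, Bool.and_eq_true, Bool.and_eq_true, allN_iff]
        refine ⟨⟨rfl, rfl⟩, fun i hi => ?_⟩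
        rw [Nat.beq_eq]
        have hp : cls (Pi.single 0 1 + fe (i + 1) • Pi.single c 1) = 2 := by
          show clsC _ = 2
          rw [show eV (Pi.single 0 1 + fe (i + 1) • Pi.single c 1) = 1 + (i + 1) * 4 ^ c.1 from
            pair_code c hc ⟨i, hi⟩]
          exact pair_cls c hc ⟨i, hi⟩
        have h2 := hspec _ hp
        rw [Matrix.mulVec_add, Matrix.mulVec_smul, h0, ← hv] at h2
        have hs := shift_code ⟨eV v, eV_lt v⟩ hg ⟨i, hi⟩
        simp only [dV_eV] at hs
        show clsC (1 + scalC (i + 1) (eV v)) = 2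
        rw [← hs]
        exact h2
      rw [hcond] at h
      exact Nat.eq_of_beq_eq_true h
    obtain ⟨r, hr⟩ := (cls_facts ⟨eV v, eV_lt v⟩).2.2.2.2 hw
    simp only [dV_eV] at hr
    refine ⟨r, v r, funext fun i => ?_⟩
    by_cases hi : i = r
    · rw [hi, Pi.single_eq_same]
    · rw [Pi.single_eq_of_ne hi, hr i hi]
  have hall : ∀ c : Fin 6, ∃ r a, U *ᵥ Pi.single c 1 = Pi.single r a := by
    intro c
    by_cases hc : c = 0
    · exact ⟨0, 1, by rw [hc, h0]⟩
    · exact hcol c hc
  choose f d hfd using hall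
  have hd : ∀ c, d c ≠ 0 := fun c e => by
    have h := hinj ((hfd c).trans (by rw [e, Pi.single_zero, Matrix.mulVec_zero]))
    have := congrFun h c
    simp at this
  have hf : Function.Injective f := by
    intro a b hab
    by_contra hne
    have h : U *ᵥ (d b • Pi.single a 1) = U *ᵥ (d a • Pi.single b 1) := by
      rw [Matrix.mulVec_smul, Matrix.mulVec_smul, hfd, hfd, hab]
      funext i
      simp only [Pi.smul_apply, Pi.single_apply, smul_eq_mul]
      split_ifs <;> ring
    have h2 := congrFun (hinj h) a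
    rw [Pi.smul_apply, Pi.smul_apply, Pi.single_eq_same, Pi.single_eq_of_ne hne, smul_eq_mul,
      smul_eq_mul, mul_one, mul_zero] at h2
    exact hd b h2
  let π : Equiv.Perm (Fin 6) := Equiv.ofBijective f (Finite.injective_iff_bijective.1 hf)
  have hU' : U = mono d π := by
    refine Matrix.ext fun r c => ?_
    have := congrFun (hfd c) r
    rw [Matrix.mulVec_single_one] at this
    rw [mono_apply]
    refine this.trans ?_
    rw [Pi.single_apply]
    rfl
  have h1 : cls (fun _ => 1) = 2 := by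
    show clsC _ = 2
    rw [root_code.2, all_one_cls]
  have h2 := hspec _ h1
  rw [hU'] at h2
  have hprod := (cls_facts ⟨eV (mono d π *ᵥ fun _ => 1), eV_lt _⟩).2.2.2.1 h2
  simp only [dV_eV] at hprod
  have he : ∀ i, (mono d π *ᵥ fun _ => (1 : K4)) i = d (π⁻¹ i) := by
    intro i
    obtain ⟨c, rfl⟩ := π.surjective i
    rw [mono_mulVec, mul_one]
    simp
  have h3 := hprod fun i => by rw [he]; exact hd _
  rw [hU', det_mono, ← Equiv.prod_comp π⁻¹ d]
  refine Eq.trans (Finset.prod_congr rfl fun i _ => (he i).symm) h3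

/-- A matrix preserving the form and normalising the model has determinant one. -/
theorem det_eq_one_of_normalizes {U : Mat} (hU : Preserves 2 U)
    (hn : ∀ k ∈ Kg, ∃ k' ∈ Kg, mat k * U = U * mat k') : U.det = 1 := by
  have h1 : cls (U *ᵥ Pi.single 0 1) = 1 :=
    (facts _).1.2 (by rw [hU, herm_single_single hK, if_pos rfl])
  obtain ⟨k, hk, e⟩ := reach (root := 1) (by norm_num) (Or.inl ⟨rfl, rfl⟩) _ (eV_lt _) h1
  rw [← root_code.1, dV_eV, dV_eV] at e
  have h := det_eq_one_of_fix (U := mat k⁻¹ * U) (preserves_mul (preserves_mat _) hU) (fun x hx => by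
      obtain ⟨k', hk', e'⟩ := hn _ (mul_mem (mul_mem hk hx) (inv_mem hk))
      refine ⟨k', hk', ?_⟩
      rw [mul_assoc (mat k⁻¹) U, ← e', mat_mul, mat_mul]
      simp only [← mul_assoc]
      rw [mat_inv_left, one_mul])
    (by rw [← Matrix.mulVec_mulVec, ← e, ← ap_def, ap_inv_ap])
  rwa [Matrix.det_mul, det_mat, one_mul] at h

end Cfsg.Agent.H41.SUSix
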