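import Cfsg.Agent.H41.SUSix.Classify
import Cfsg.Agent.H41.SUSix.Orbit

/-!
SU6(2) has exactly three classes of subgroups 3.U4(3).
-/

set_option autoImplicit false
set_option maxHeartbeats 1000000
set_option maxRecDepth 20000

namespace Cfsg.Agent.H41.SUSix

open Cfsg Cfsg.Agent.H95 Cfsg.Agent.Unitary Matrix

/-- The property of a subgroup asked for. -/
def IsCover {G : Type*} [Group G] (F9 : Type) [Field F9] (K : Subgroup G) : Prop :=
  Nat.card ↥(Subgroup.center ↥K) = 3 ∧
    Nonempty (↥K ⧸ Subgroup.center ↥K ≃* Cfsg.PSU 4 F9 3)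

theorem isCover_of_equiv {G H : Type*} [Group G] [Group H] {F9 : Type} [Field F9]
    {K : Subgroup G} {L : Subgroup H} (e : ↥K ≃* ↥L) (h : IsCover F9 K) : IsCover F9 L := by
  obtain ⟨h1, ⟨f⟩⟩ := h
  have hmap : (Subgroup.center ↥K).map e.toMonoidHom = Subgroup.center ↥L := by
    ext x
    obtain ⟨y, rfl⟩ := e.surjective x
    rw [show (e y ∈ (Subgroup.center ↥K).map e.toMonoidHom) ↔ y ∈ Subgroup.center ↥K from
      Subgroup.mem_map_iff_mem (f := e.toMonoidHom) e.injective, Subgroup.mem_center_iff,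
      Subgroup.mem_center_iff]
    constructor
    · intro h z
      obtain ⟨z, rfl⟩ := e.surjective z
      show e z * e y = e y * e z
      rw [← map_mul, ← map_mul, h]
    · intro h z
      exact e.injective (by rw [map_mul, map_mul]; exact h (e z))
  refine ⟨(Nat.card_congr (Subgroup.centerCongr e).toEquiv).symm.trans h1,
    ⟨(QuotientGroup.congr _ _ e hmap).symm.trans f⟩⟩

theorem isCover_Kg (F9 : Type) [Field F9] [Fintype F9] (h9 : Fintype.card F9 = 9) :
    IsCover F9 Kg := by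
  obtain ⟨e⟩ := UFourThree.psu_chain (F := F9) h9
  refine ⟨by rw [center_Kg]; exact card_ker, ⟨?_⟩⟩
  exact (((QuotientGroup.quotientMulEquivOfEq center_Kg).trans
    (QuotientGroup.quotientKerEquivRange thetaK)).trans
    (MulEquiv.subgroupCongr range_thetaK)).trans e.symm

theorem isCover_Kc (F9 : Type) [Field F9] [Fintype F9] (h9 : Fintype.card F9 = 9) (c : Fin 3) :
    IsCover F9 (Kc c) :=
  isCover_of_equiv (Kg.equivMapOfInjective (cj c).toMonoidHom (cj c).injective) (isCover_Kg F9 h9)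

theorem exists_cov {F9 : Type} [Field F9] [Fintype F9] (h9 : Fintype.card F9 = 9)
    {K : Subgroup ↥SG} (h : IsCover F9 K) : Nonempty (Cov K) := by
  obtain ⟨h1, ⟨f⟩⟩ := h
  obtain ⟨e⟩ := UFourThree.psu_chain (F := F9) h9
  let m := UFourThree.chainGrp.subtype.comp ((f.trans e).toMonoidHom.comp (QuotientGroup.mk' _))
  refine ⟨⟨m, ?_, ?_, h1⟩⟩
  · rw [MonoidHom.range_comp, MonoidHom.range_eq_top.2
      ((f.trans e).surjective.comp (QuotientGroup.mk'_surjective _)), ← MonoidHom.range_eq_map,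
      Subgroup.range_subtype]
  · ext x
    rw [MonoidHom.mem_ker]
    show ((f.trans e) (QuotientGroup.mk x) : Equiv.Perm (Fin 112)) = 1 ↔ _
    rw [OneMemClass.coe_eq_one, MulEquiv.map_eq_one_iff, QuotientGroup.eq_one_iff]

theorem not_conj {i j : Fin 3} (hij : i ≠ j) :
    ¬ ∃ g : ↥SG, (Kc i).map (MulAut.conj g).toMonoidHom = Kc j := by
  rintro ⟨g, hg⟩
  have hP : Preserves 2 (dl (-j) * mat g * dl i) :=
    preserves_mul (preserves_mul (preserves_dl _) (preserves_mat g)) (preserves_dl i)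
  have hdet : (dl (-j) * mat g * dl i).det ≠ 1 := by
    rw [Matrix.det_mul, Matrix.det_mul, det_mat, mul_one, det_dl, det_dl]
    have : ∀ a b : Fin 3, a ≠ b → ω₄ ^ (-b).1 * ω₄ ^ a.1 ≠ 1 := by decide +kernel
    exact this i j hij
  refine hdet (det_eq_one_of_normalizes hP fun k hk => ?_)
  have hmem : cj j k ∈ (Kc i).map (MulAut.conj g).toMonoidHom := by
    rw [hg]
    exact ⟨k, hk, rfl⟩
  obtain ⟨_, ⟨k', hk', rfl⟩, e⟩ := hmem
  refine ⟨k', hk', ?_⟩
  have e1 : g * cj i k' * g⁻¹ = cj j k := e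
  have e2 : g * cj i k' = cj j k * g := by rw [← e1]; group
  have e3 := congrArg mat e2
  rw [mat_mul, mat_mul, mat_cj, mat_cj] at e3
  calc mat k * (dl (-j) * mat g * dl i)
      = dl (-j) * dl j * mat k * dl (-j) * mat g * dl i := by
        rw [dl_neg_left, one_mul]; simp only [mul_assoc]
    _ = dl (-j) * ((dl j * mat k * dl (-j)) * mat g) * dl i := by simp only [mul_assoc]
    _ = dl (-j) * (mat g * (dl i * mat k' * dl (-i))) * dl i := by rw [← e3]
    _ = dl (-j) * mat g * dl i * mat k' * (dl (-i) * dl i) := by simp only [mul_assoc]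
    _ = dl (-j) * mat g * dl i * mat k' := by rw [dl_neg_left, mul_one]

/-- The statement over the concrete field. -/
theorem three_classes (F9 : Type) [Field F9] [Fintype F9] (h9 : Fintype.card F9 = 9) :
    (∀ c, IsCover F9 (Kc c)) ∧
      (∀ i j, i ≠ j → ¬ ∃ g : ↥SG, (Kc i).map (MulAut.conj g).toMonoidHom = Kc j) ∧
      ∀ K : Subgroup ↥SG, IsCover F9 K →
        ∃ (g : ↥SG) (c : Fin 3), K.map (MulAut.conj g).toMonoidHom = Kc c := by
  refine ⟨isCover_Kc F9 h9, fun i j h => not_conj h, fun K hK => ?_⟩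
  obtain ⟨C⟩ := exists_cov h9 hK
  exact classify C

section Transport

variable {F : Type} [Field F]

theorem mem_SU_map {F' : Type} [Field F'] (φ : F ≃+* F') {g : Matrix.SpecialLinearGroup (Fin 6) F}
    (hg : g ∈ Cfsg.SU 6 F 2) :
    Matrix.SpecialLinearGroup.map φ.toRingHom g ∈ Cfsg.SU 6 F' 2 := by
  intro u v
  have hu : u = fun i => φ (φ.symm (u i)) := funext fun i => (φ.apply_symm_apply _).symm
  have hv : v = fun i => φ (φ.symm (v i)) := funext fun i => (φ.apply_symm_apply _).symm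
  have key : ∀ w : Fin 6 → F, ((g : Matrix (Fin 6) (Fin 6) F).map φ) *ᵥ (fun i => φ (w i)) =
      fun i => φ (((g : Matrix (Fin 6) (Fin 6) F) *ᵥ w) i) := fun w => by
    funext i
    simp [Matrix.mulVec, dotProduct, map_sum, map_mul]
  have hsum : ∀ a b : Fin 6 → F, hermForm 6 F' 2 (fun i => φ (a i)) (fun i => φ (b i)) =
      φ (hermForm 6 F 2 a b) := fun a b => by
    simp [hermForm, map_sum, map_mul, map_pow]
  show hermForm 6 F' 2 ((g : Matrix (Fin 6) (Fin 6) F).map φ *ᵥ u)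
    ((g : Matrix (Fin 6) (Fin 6) F).map φ *ᵥ v) = _
  rw [hu, hv, key, key, hsum, hsum]
  exact congrArg φ (hg _ _)

/-- The isomorphism of groups from an isomorphism of fields. -/
def suEquiv {F' : Type} [Field F'] (φ : F ≃+* F') : ↥(Cfsg.SU 6 F 2) ≃* ↥(Cfsg.SU 6 F' 2) where
  toFun g := ⟨Matrix.SpecialLinearGroup.map φ.toRingHom g.1, mem_SU_map φ g.2⟩
  invFun g := ⟨Matrix.SpecialLinearGroup.map φ.symm.toRingHom g.1, mem_SU_map φ.symm g.2⟩
  left_inv g := by
    refine Subtype.ext (Subtype.ext (Matrix.ext fun i j => ?_))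
    simp
  right_inv g := by
    refine Subtype.ext (Subtype.ext (Matrix.ext fun i j => ?_))
    simp
  map_mul' g h := Subtype.ext (map_mul _ _ _)

theorem three_classes_of_equiv {G : Type} [Group G] (e : ↥SG ≃* G) (F9 : Type) [Field F9]
    [Fintype F9] (h9 : Fintype.card F9 = 9) :
    ∃ K₁ K₂ K₃ : Subgroup G, (∀ K ∈ [K₁, K₂, K₃], IsCover F9 K) ∧
      (¬ ∃ g : G, K₁.map (MulAut.conj g).toMonoidHom = K₂) ∧
      (¬ ∃ g : G, K₁.map (MulAut.conj g).toMonoidHom = K₃) ∧
      (¬ ∃ g : G, K₂.map (MulAut.conj g).toMonoidHom = K₃) ∧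
      ∀ K : Subgroup G, IsCover F9 K → ∃ g : G, K.map (MulAut.conj g).toMonoidHom = K₁ ∨
        K.map (MulAut.conj g).toMonoidHom = K₂ ∨ K.map (MulAut.conj g).toMonoidHom = K₃ := by
  obtain ⟨h1, h2, h3⟩ := three_classes F9 h9
  let T : Fin 3 → Subgroup G := fun c => (Kc c).map e.toMonoidHom
  have hconj : ∀ (g : ↥SG) (K : Subgroup ↥SG),
      (K.map (MulAut.conj g).toMonoidHom).map e.toMonoidHom =
        (K.map e.toMonoidHom).map (MulAut.conj (e g)).toMonoidHom := by
    intro g K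
    rw [Subgroup.map_map, Subgroup.map_map]
    congr 1
    ext x
    simp
  have hn : ∀ i j, i ≠ j → ¬ ∃ g : G, (T i).map (MulAut.conj g).toMonoidHom = T j := by
    rintro i j hij ⟨g, hg⟩
    obtain ⟨g, rfl⟩ := e.surjective g
    refine h2 i j hij ⟨g, Subgroup.map_injective (f := e.toMonoidHom) e.injective ?_⟩
    rw [hconj]
    exact hg
  refine ⟨T 0, T 1, T 2, ?_, hn 0 1 (by decide), hn 0 2 (by decide), hn 1 2 (by decide), ?_⟩
  · intro K hK
    have hT : ∀ c, IsCover F9 (T c) := fun c =>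
      isCover_of_equiv ((Kc c).equivMapOfInjective e.toMonoidHom e.injective) (h1 c)
    simp only [List.mem_cons, List.not_mem_nil, or_false] at hK
    rcases hK with rfl | rfl | rfl <;> exact hT _
  · intro K hK
    let K' := K.map e.symm.toMonoidHom
    have hK' : IsCover F9 K' :=
      isCover_of_equiv (K.equivMapOfInjective e.symm.toMonoidHom e.symm.injective) hK
    obtain ⟨g, c, hgc⟩ := h3 K' hK'
    have hback : K'.map e.toMonoidHom = K := by
      rw [Subgroup.map_map]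
      have : e.toMonoidHom.comp e.symm.toMonoidHom = MonoidHom.id G := by ext x; simp
      rw [this, Subgroup.map_id]
    refine ⟨e g, ?_⟩
    have h := congrArg (Subgroup.map e.toMonoidHom) hgc
    rw [hconj, hback] at h
    rw [h]
    fin_cases c
    · exact Or.inl rfl
    · exact Or.inr (Or.inl rfl)
    · exact Or.inr (Or.inr rfl)

/-- The classes over an arbitrary field with four elements. -/
theorem three_classes_SU (F : Type) [Field F] [Fintype F] (hF : Fintype.card F = 4)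
    (F9 : Type) [Field F9] [Fintype F9] (h9 : Fintype.card F9 = 9) :
    ∃ K₁ K₂ K₃ : Subgroup ↥(Cfsg.SU 6 F 2), (∀ K ∈ [K₁, K₂, K₃], IsCover F9 K) ∧
      (¬ ∃ g : ↥(Cfsg.SU 6 F 2), K₁.map (MulAut.conj g).toMonoidHom = K₂) ∧
      (¬ ∃ g : ↥(Cfsg.SU 6 F 2), K₁.map (MulAut.conj g).toMonoidHom = K₃) ∧
      (¬ ∃ g : ↥(Cfsg.SU 6 F 2), K₂.map (MulAut.conj g).toMonoidHom = K₃) ∧
      ∀ K : Subgroup ↥(Cfsg.SU 6 F 2), IsCover F9 K →
        ∃ g : ↥(Cfsg.SU 6 F 2), K.map (MulAut.conj g).toMonoidHom = K₁ ∨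
          K.map (MulAut.conj g).toMonoidHom = K₂ ∨ K.map (MulAut.conj g).toMonoidHom = K₃ :=
  three_classes_of_equiv
    (suEquiv (FiniteField.ringEquivOfCardEq (show Fintype.card K4 = Fintype.card F by
      rw [hF]; rfl))) F9 h9

end Transport

end Cfsg.Agent.H41.SUSix
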