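import Cfsg.Agent.H41.SUSix.Elts
import Cfsg.Agent.H41.SUSix.Data
import Cfsg.Agent.H95.UFourThree

/-!
Kernel checks for the model of 3.U4(3) inside SU6(2).
-/

set_option autoImplicit false
set_option Elab.async false
set_option maxRecDepth 100000
set_option maxHeartbeats 1000000

namespace Cfsg.Agent.H41.SUSix

open Cfsg.Agent.Compute Cfsg.Agent.H95 Matrix

/-- The code of a point of a frame. -/
noncomputable def ptC (j s : ℕ) : ℕ := getP 12 ptTab (Nat.add (Nat.mul 6 j) s)

/-- The code of a generator. -/
noncomputable def gC (k : ℕ) : ℕ := nth 0 genTab k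

/-- The permutation induced by a generator. -/
noncomputable def pc (k : ℕ) : ℕ := (nth ((0, 0), 0, 0) slpTab k).1.1

/-- A coded matrix moves the frames as tabulated. -/
noncomputable def mapsC (g : ℕ) (σ : ℕ → ℕ) : Bool :=
  allN 112 fun j => Nat.ble (Nat.add (σ j) 1) 112 &&
    allN 6 fun s => anyN 6 fun s' => anyN 3 fun c =>
      Nat.beq (mulVecC g (ptC j s)) (scalC (Nat.add c 1) (ptC (σ j) s'))

/-- All multiples of all points. -/
noncomputable def multList : List ℕ :=
  (List.range 2016).map fun m =>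
    scalC (Nat.add (Nat.mod m 3) 1) (ptC (Nat.div m 18) (Nat.mod (Nat.div m 3) 6))

theorem gen_preserves : ∀ k : Fin 10,
    (dM (gC k)).transpose * (dM (gC k)).map (fun x => x ^ 2) = 1 := by
  decide +kernel

theorem gen_det : ∀ k : Fin 10, (dM (gC k)).det = 1 := by decide +kernel

theorem maps_ok : allN 10 (fun k => mapsC (gC k) (fun i => getP 7 (pc k) i)) = true := by
  decide +kernel

theorem tau_maps : mapsC (eV (fun c => if c = 1 then 1 else 0) +
    4096 * (eV (fun c => if c = 0 then 1 else 0) +
    4096 * (eV (fun c => if c = 2 then 1 else 0) + 4096 * (eV (fun c => if c = 3 then 1 else 0) +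
    4096 * (eV (fun c => if c = 4 then 1 else 0) + 4096 * eV (fun c => if c = 5 then 1 else 0))))))
    (fun i => getP 7 tauPair.1 i) = true := by
  decide +kernel

theorem mult_distinct : distinct multList 0 = true := by decide +kernel

theorem slp_ok : PermIso.slpOK 7 112 10 (nextGens UFourThree.u43Chain) slpTab = true := by
  decide +kernel

theorem pc_ok : allN 10 (fun k => invPerm 7 112 (pc k) (nth ((0, 0), 0, 0) slpTab k).1.2 &&
    sift (permOps 7 112) UFourThree.u43Chain (pc k)) = true := by
  decide +kernel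

theorem tau_ok : (invPerm 7 112 tauPair.1 tauPair.2 &&
    !sift (permOps 7 112) UFourThree.u43Chain tauPair.1) = true := by
  decide +kernel

theorem std_frame : ∀ s : Fin 6, ptC 0 s = eV (Pi.single s 1) := by decide +kernel

/-- The supports of the points of a frame. -/
noncomputable def suppEq (π : ℕ → ℕ) (u u' : ℕ) : Bool :=
  allN 6 fun c => cond (Nat.beq (getP 2 u c) 0) (Nat.beq (getP 2 u' (π c)) 0)
    (!Nat.beq (getP 2 u' (π c)) 0)

theorem kernel_perm : ∀ π : Equiv.Perm (Fin 6),
    π = 1 ∨ (([3, 18, 20, 32, 38, 39, 46, 48, 51, 53] : List ℕ).any fun j =>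
      anyN 6 fun s => allN 6 fun s' =>
        !suppEq (fun c => if h : c < 6 then (π ⟨c, h⟩ : ℕ) else 0) (ptC j s) (ptC j s')) = true := by
  decide +kernel

theorem kernel_diag : allN 4096 (fun v =>
    !(allN 6 (fun c => !Nat.beq (getP 2 v c) 0)) ||
    allN 6 (fun c => Nat.beq (getP 2 v c) (getP 2 v 0)) ||
    anyN 6 (fun s => allN 6 fun s' => allN 3 fun c =>
      !Nat.beq (packP 2 (fun i => mulC (getP 2 v i) (getP 2 (ptC 1 s) i)) 6)
        (scalC (Nat.add c 1) (ptC 1 s')))) = true := by
  decide +kernel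

end Cfsg.Agent.H41.SUSix
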