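import Cfsg.Agent.H41.SUSix.Witness

/-!
Every covering subgroup is conjugate to one of the three conjugates of the model.
-/

set_option autoImplicit false
set_option maxHeartbeats 1000000
set_option maxRecDepth 20000

namespace Cfsg.Agent.H41.SUSix

open Cfsg Cfsg.Agent.H95 Cfsg.Agent.Unitary Matrix

/-- The three models. -/
noncomputable def Kc (c : Fin 3) : Subgroup ↥SG := Kg.map (cj c).toMonoidHom

theorem card_Kc (c : Fin 3) : Nat.card (Kc c) = 3 * 3265920 := by
  rw [Kc, Nat.card_congr (Kg.equivMapOfInjective _ (cj c).injective).symm.toEquiv, card_Kg]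

theorem cov_card {K : Subgroup ↥SG} (C : Cov K) : Nat.card K = 3 * 3265920 := by
  have h := Subgroup.card_mul_index C.map.ker
  rw [Subgroup.index_ker, C.range_eq, UFourThree.card_chainGrp, C.ker_eq, C.card_center] at h
  exact h.symm

theorem Kg_le {H : Subgroup ↥SG} {c : Fin 3} (hM : Mgrp ≤ H)
    (hX : cj c (tauG * repG 1 1) ∈ H) : Kc c ≤ H := by
  rw [Kc, Subgroup.map_le_iff_le_comap]
  refine (Subgroup.closure_le _).2 ?_
  rintro _ ⟨k, rfl⟩
  show cj c (genG k) ∈ H
  by_cases hk : k.1 < 5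
  · refine hM (cj_mem_M c (D_le_M ⟨dd ⟨k, hk⟩, ?_⟩))
    rw [mat_genG]
    exact gen_diag ⟨k, hk⟩
  by_cases hk9 : k.1 < 9
  · refine hM (cj_mem_M c ⟨fun _ => 1, cyc ⟨k - 3, by omega⟩, ?_, ?_⟩)
    · rw [mat_genG]
      have h := gen_cyc ⟨k - 5, by omega⟩
      have e1 : k.1 - 5 + 5 = k.1 := by omega
      simp only [e1] at h
      refine h.trans ?_
      congr 2
      exact Fin.ext (show k.1 - 5 + 2 = k.1 - 3 by omega)
    · have h0 : (⟨k.1 - 3, by omega⟩ : Fin 6) ≠ 0 := fun e => by
        have := congrArg Fin.val e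
        simp at this
        omega
      rw [cyc, map_mul, Equiv.Perm.sign_swap h0.symm,
        Equiv.Perm.sign_swap (show (0 : Fin 6) ≠ 1 by decide)]
      rfl
  · have e : k = 9 := Fin.ext (by have := k.2; show k.1 = 9; omega)
    subst e
    have e' : genG 9 = tauG * repG 1 1 := mat_ext ((mat_genG 9).trans gen_nine)
    rw [e']
    exact hX

/-- A matrix with at most one non-zero entry in each row. -/
theorem mono_of_rows {A : Mat} (hA : A.det ≠ 0) (h : ∀ r, ∃ k, ∀ c, c ≠ k → A r c = 0) :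
    ∃ d π, A = mono d π := by
  choose g hg using h
  have hs : Function.Surjective g := by
    intro c
    by_contra hc
    push Not at hc
    exact hA (Matrix.det_eq_zero_of_column_eq_zero c fun r => hg r c (hc r).symm)
  let π : Equiv.Perm (Fin 6) :=
    (Equiv.ofBijective g (Finite.injective_iff_bijective.1
      (Finite.injective_iff_surjective.2 hs))).symm
  refine ⟨fun c => A (π c) c, π, Matrix.ext fun r c => ?_⟩
  rw [mono_apply]
  by_cases hr : r = π c
  · rw [if_pos hr, hr]
  · rw [if_neg hr]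
    refine hg r c fun e => hr ?_
    rw [e]
    exact (Equiv.ofBijective_symm_apply_apply g _ r).symm

theorem blk_inj {A A' B B' : Mat3} (h : blk A B = blk A' B') : A = A' ∧ B = B' := by
  constructor <;> refine Matrix.ext fun r c => ?_
  · rw [← (blk_entry A B r c).1, h, (blk_entry A' B' r c).1]
  · rw [← (blk_entry A B r c).2.1, h, (blk_entry A' B' r c).2.1]

/-- A block diagonal element is a monomial element times a representative. -/
theorem exists_decomp {x : ↥SG} {A B : Mat3} (hx : mat x = blk A B) :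
    ∃ (i j : Fin 4) (d : Vec) (π : Equiv.Perm (Fin 6)),
      mat (x * (repG i j)⁻¹) = mono d π := by
  have h := (preserves_iff_transpose_mul hK).1 (preserves_mat x)
  rw [hx, blk_transpose_mul, ← blk_one] at h
  obtain ⟨hA, hB⟩ := blk_inj h
  obtain ⟨i, hi⟩ := gu3 A hA
  obtain ⟨j, hj⟩ := gu3 B hB
  have hinv : mat (repG i j)⁻¹ = blk (Yinv i) (Yinv j) := by
    calc mat (repG i j)⁻¹ = blk (Yinv i) (Yinv j) * mat (repG i j) * mat (repG i j)⁻¹ := by
          rw [mat_repG, blk_mul, (Y_facts i).2.2, (Y_facts j).2.2, blk_one, one_mul]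
      _ = _ := by rw [mul_assoc, mat_inv_right, mul_one]
  have hm : mat (x * (repG i j)⁻¹) = blk (A * Yinv i) (B * Yinv j) := by
    rw [mat_mul, hx, hinv, blk_mul]
  refine ⟨i, j, mono_of_rows (by rw [det_mat]; exact one_ne_zero) fun r => ?_⟩
  refine Fin.addCases (m := 3) (n := 3) (fun a => ?_) (fun a => ?_) r
  · obtain ⟨k, hk⟩ := hi a
    refine ⟨k.castAdd 3, fun c hc => ?_⟩
    rw [hm]
    revert hc
    refine Fin.addCases (m := 3) (n := 3) (fun b hc => ?_) (fun b _ => ?_) c
    · rw [(blk_entry _ _ a b).1]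
      exact hk b fun e => hc (by rw [e])
    · exact (blk_entry _ _ a b).2.2.1
  · obtain ⟨k, hk⟩ := hj a
    refine ⟨k.natAdd 3, fun c hc => ?_⟩
    rw [hm]
    revert hc
    refine Fin.addCases (m := 3) (n := 3) (fun b _ => ?_) (fun b hc => ?_) c
    · exact (blk_entry _ _ a b).2.2.2
    · rw [(blk_entry _ _ a b).2.1]
      exact hk b fun e => hc (by rw [e])

variable {K : Subgroup ↥SG} {C : Cov K}

theorem odd_false (hC : C.Std) (hD : Dgrp ≤ K) {w : ↥SG} (hw : w ∈ K) {A : Mat}
    (hA : mat w = A) {a b : Fin 6} (hab : a ≠ b)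
    (h : IsDiag (A * mono (fun _ => 1) (Equiv.swap a b))) : False := by
  have hmem : w * pmG (Equiv.swap a b) ∈ Dgrp := by
    refine ⟨fun c => mat (w * pmG (Equiv.swap a b)) c c, Matrix.ext fun r c => ?_⟩
    rw [mono_apply, Equiv.Perm.one_apply]
    by_cases hrc : r = c
    · rw [if_pos hrc, hrc]
    · rw [if_neg hrc, mat_mul, mat_pmG, hA]
      exact (h r c).resolve_left hrc
  have hp : pmG (Equiv.swap a b) ∈ K := by
    have := mul_mem (inv_mem hw) (hD hmem)
    rwa [inv_mul_cancel_left] at this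
  obtain ⟨d, π, e, hs⟩ := C.mono_mem_M hC hD hp (mat_pmG _)
  rw [← (mono_inj (fun _ => one_ne_zero) ((mat_pmG _).symm.trans e)).2,
    Equiv.Perm.sign_swap hab] at hs
  exact absurd hs (by decide)

theorem bad_left (hC : C.Std) (hD : Dgrp ≤ K) (j : Fin 3)
    (h : repG 0 j.succ ∈ K ∨ tauG * repG 0 j.succ ∈ K) : False := by
  rcases h with h | h
  · exact odd_false hC hD (mul_mem h h) rfl (show (4 : Fin 6) ≠ 5 by decide) (bad_zero_left j).1
  · exact odd_false hC hD (mul_mem h h) rfl (show (4 : Fin 6) ≠ 5 by decide) (bad_zero_left j).2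

theorem bad_right (hC : C.Std) (hD : Dgrp ≤ K) (i : Fin 3)
    (h : repG i.succ 0 ∈ K ∨ tauG * repG i.succ 0 ∈ K) : False := by
  rcases h with h | h
  · exact odd_false hC hD (mul_mem h h) rfl (show (1 : Fin 6) ≠ 2 by decide) (bad_zero_right i).1
  · exact odd_false hC hD (mul_mem h h) rfl (show (0 : Fin 6) ≠ 1 by decide) (bad_zero_right i).2

theorem bad_pair (hC : C.Std) (hD : Dgrp ≤ K) (i j : Fin 3) (h : repG i.succ j.succ ∈ K) :
    False :=
  have ha : diagG (dd 2) (dd_prod 2) ∈ K := hD (diagG_mem _ _)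
  odd_false hC hD (mul_mem (mul_mem (mul_mem (mul_mem h ha) h) ha) h) rfl
    (show (4 : Fin 6) ≠ 5 by decide) (bad_both i j)

theorem good_case (hC : C.Std) (hD : Dgrp ≤ K) (i j : Fin 3)
    (h : tauG * repG i.succ j.succ ∈ K) : K = Kc (cls3 i j) := by
  have hM := C.M_le hC hD
  obtain ⟨h1, h2⟩ := right_facts i j
  let a := monoG (leftD j) 1 h2
  let b := monoG (fun c => fe (rightTab i j c)) (rightP i j) h1
  have ha : a ∈ K := hM (monoG_mem h2 (map_one _))
  have hb : b ∈ K := hM (monoG_mem h1 (right_even i j))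
  have e : tauG * repG i.succ j.succ = a * cj (cls3 i j) (tauG * repG 1 1) * b := by
    refine mat_ext ?_
    rw [mat_mul, mat_mul, mat_mul, mat_cj, mat_tauG, mat_repG, mat_monoG, mat_monoG, ← gen_nine]
    exact good_ok i j
  rw [e] at h
  have hX := (Subgroup.mul_mem_cancel_left K ha).1 ((Subgroup.mul_mem_cancel_right K hb).1 h)
  refine (Subgroup.eq_of_le_of_card_ge (Kg_le hM hX) ?_).symm
  rw [card_Kc, cov_card C]

/-- A subgroup in standard position is one of the models up to conjugation. -/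
theorem classify_std (hC : C.Std) (hD : Dgrp ≤ K) : ∃ c, K = Kc c := by
  have hM := C.M_le hC hD
  obtain ⟨x, hxK, hxM, A, B, hx⟩ := exists_witness hC hD
  obtain ⟨i, j, d, π, hm⟩ := exists_decomp hx
  have hp : ∏ c, d c = 1 := by rw [← det_mono d π, ← hm, det_mat]
  have hcase : (repG i j ∈ K ∨ tauG * repG i j ∈ K) ∧ (i ≠ 0 ∨ j ≠ 0) := by
    constructor
    · rcases Int.units_eq_one_or (Equiv.Perm.sign π) with e | e
      · left
        have := mul_mem (inv_mem (hM (show x * (repG i j)⁻¹ ∈ Mgrp from ⟨d, π, hm, e⟩))) hxK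
        have e' : (x * (repG i j)⁻¹)⁻¹ * x = repG i j := by group
        rwa [e'] at this
      · right
        have hme : x * (repG i j)⁻¹ * tauG ∈ Mgrp := by
          refine ⟨_, _, by rw [mat_mul, hm, mat_tauG, mono_mul], ?_⟩
          rw [map_mul, e, Equiv.Perm.sign_swap (show (0 : Fin 6) ≠ 1 by decide)]
          rfl
        have := mul_mem (inv_mem (hM hme)) hxK
        have ht : tauG⁻¹ = tauG := by
          rw [tauG, ← map_inv, Equiv.swap_inv]
        have e' : (x * (repG i j)⁻¹ * tauG)⁻¹ * x = tauG⁻¹ * repG i j := by group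
        rwa [e', ht] at this
    · by_contra hij
      push Not at hij
      obtain ⟨rfl, rfl⟩ := hij
      refine hxM (C.mono_mem_M hC hD hxK (d := d) (π := π) ?_)
      rw [← hm, mat_mul]
      have e : repG 0 0 = 1 := mat_ext (by rw [mat_repG, mat_one]; exact blk_one)
      rw [e, inv_one, mat_one, mul_one]
  obtain ⟨hmem, hne⟩ := hcase
  by_cases hi : i = 0
  · subst hi
    obtain ⟨j', rfl⟩ := Fin.exists_succ_eq.2 (hne.resolve_left (fun h => h rfl))
    exact (bad_left hC hD j' hmem).elim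
  obtain ⟨i', rfl⟩ := Fin.exists_succ_eq.2 hi
  by_cases hj : j = 0
  · subst hj
    exact (bad_right hC hD i' hmem).elim
  obtain ⟨j', rfl⟩ := Fin.exists_succ_eq.2 hj
  rcases hmem with h | h
  · exact (bad_pair hC hD i' j' h).elim
  · exact ⟨_, good_case hC hD i' j' h⟩

theorem classify {K : Subgroup ↥SG} (C : Cov K) :
    ∃ (g : ↥SG) (c : Fin 3), K.map (MulAut.conj g).toMonoidHom = Kc c := by
  obtain ⟨g, C', hS, hD⟩ := C.exists_std
  obtain ⟨c, hc⟩ := classify_std hS hD
  exact ⟨g, c, hc⟩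

end Cfsg.Agent.H41.SUSix
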