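import Cfsg.Agent.H50.LinFour.Field
import Cfsg.Agent.Compute.PermRep

/-!
Vectors and matrices over the field with four elements coded by natural numbers, two bits per entry.
-/

set_option autoImplicit false

namespace Cfsg.Agent.H41.SUSix

open Cfsg.Agent.Compute Matrix

export Cfsg.Agent.H50.LinFour (K4)

/-- Vectors. -/
abbrev Vec : Type := Fin 6 → K4

/-- Matrices. -/
abbrev Mat : Type := Matrix (Fin 6) (Fin 6) K4

/-- The field element with a given code. -/
def fe : ℕ → K4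
  | 1 => .e
  | 2 => .w
  | 3 => .v
  | _ => .o

/-- The code of a field element. -/
def fc : K4 → ℕ
  | .o => 0
  | .e => 1
  | .w => 2
  | .v => 3

theorem fc_lt (x : K4) : fc x < 4 := by cases x <;> decide

theorem fe_fc (x : K4) : fe (fc x) = x := by cases x <;> rfl

theorem fc_fe : ∀ a < 4, fc (fe a) = a := by decide

/-- Coded sum. -/
noncomputable def addC (a b : ℕ) : ℕ := Nat.xor a b

/-- Coded product. -/
noncomputable def mulC (a b : ℕ) : ℕ := getP 2 0x9c78e400 (Nat.add (Nat.mul 4 a) b)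

theorem getP_lt (w a i : ℕ) : getP w a i < 2 ^ w := by
  rw [getP_eq]
  exact Nat.mod_lt _ (by positivity)

theorem fe_add : ∀ a < 4, ∀ b < 4, addC a b < 4 ∧ fe (addC a b) = fe a + fe b := by decide +kernel

theorem fe_mul : ∀ a < 4, ∀ b < 4, fe (mulC a b) = fe a * fe b := by decide +kernel

theorem mulC_lt (a b : ℕ) : mulC a b < 4 := getP_lt 2 _ _

/-- Decode a vector. -/
noncomputable def dV (v : ℕ) : Vec := fun i => fe (getP 2 v i.1)

/-- Encode a vector. -/
noncomputable def eV (u : Vec) : ℕ :=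
  packP 2 (fun i => if h : i < 6 then fc (u ⟨i, h⟩) else 0) 6

theorem getP_eV (u : Vec) (i : Fin 6) : getP 2 (eV u) i = fc (u i) := by
  refine (getP_packP 2 _ 6 (fun j hj => ?_) i i.2).trans (by rw [dif_pos i.2])
  rw [dif_pos hj]
  exact fc_lt _

theorem dV_eV (u : Vec) : dV (eV u) = u := funext fun i => by rw [dV, getP_eV, fe_fc]

theorem eV_lt (u : Vec) : eV u < 4096 :=
  packP_lt 2 _ 6 fun j hj => by rw [dif_pos hj]; exact fc_lt _

theorem dV_packP {f : ℕ → ℕ} (hf : ∀ i < 6, f i < 4) :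
    dV (packP 2 f 6) = fun i : Fin 6 => fe (f i) :=
  funext fun i => by show fe _ = _; rw [getP_packP 2 f 6 hf i i.2]

theorem getP_div (w a c i : ℕ) : getP w (a / 2 ^ (w * c)) i = getP w a (c + i) := by
  rw [getP_eq, getP_eq, Nat.div_div_eq_div_mul, ← pow_add, ← Nat.mul_add]

theorem packP_getP_mod (w a : ℕ) : ∀ n, packP w (fun i => getP w a i) n = a % 2 ^ (w * n) := by
  intro n
  induction n with
  | zero => simp [packP, Nat.mod_one]
  | succ k ih =>
    rw [packP_succ, ih, getP_eq, Nat.mul_succ, pow_add, Nat.mod_mul, Nat.mul_comm (2 ^ (w * k))]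

theorem eV_dV {v : ℕ} (hv : v < 4096) : eV (dV v) = v := by
  have h := packP_getP_mod 2 v 6
  rw [show (2 : ℕ) ^ (2 * 6) = 4096 from rfl, Nat.mod_eq_of_lt hv] at h
  refine Eq.trans (packP_congr 2 6 fun i hi => ?_) h
  rw [dif_pos hi]
  exact fc_fe _ (getP_lt 2 _ _)

theorem dV_inj {a b : ℕ} (ha : a < 4096) (hb : b < 4096) (h : dV a = dV b) : a = b := by
  rw [← eV_dV ha, ← eV_dV hb, h]

/-- Coded scalar multiple. -/
noncomputable def scalC (c v : ℕ) : ℕ := packP 2 (fun i => mulC c (getP 2 v i)) 6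

theorem dV_scalC {c : ℕ} (hc : c < 4) (v : ℕ) : dV (scalC c v) = fe c • dV v := by
  rw [scalC, dV_packP fun i _ => mulC_lt _ _]
  funext i
  exact fe_mul c hc _ (getP_lt 2 _ _)

/-- Coded product of two vectors, without conjugation. -/
noncomputable def dotC (r v : ℕ) : ℕ :=
  Nat.rec 0 (fun i acc => addC acc (mulC (getP 2 r i) (getP 2 v i))) 6

theorem dotC_spec (r v : ℕ) : dotC r v < 4 ∧ fe (dotC r v) = dV r ⬝ᵥ dV v := by
  suffices h : ∀ n, (Nat.rec 0 (fun i acc => addC acc (mulC (getP 2 r i) (getP 2 v i))) n : ℕ) < 4 ∧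
      fe (Nat.rec 0 (fun i acc => addC acc (mulC (getP 2 r i) (getP 2 v i))) n) =
        ∑ i : Fin n, fe (getP 2 r i) * fe (getP 2 v i) from h 6
  intro n
  induction n with
  | zero => exact ⟨by norm_num, rfl⟩
  | succ k ih =>
    have h := fe_add _ ih.1 _ (mulC_lt (getP 2 r k) (getP 2 v k))
    refine ⟨h.1, ?_⟩
    rw [Fin.sum_univ_castSucc]
    refine h.2.trans ?_
    rw [ih.2, fe_mul _ (getP_lt 2 _ _) _ (getP_lt 2 _ _)]
    rfl

/-- Decode a matrix, twelve bits per row. -/
noncomputable def dM (g : ℕ) : Mat := Matrix.of fun r c => dV (getP 12 g r.1) c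

/-- Coded product of a matrix and a vector. -/
noncomputable def mulVecC (g v : ℕ) : ℕ := packP 2 (fun r => dotC (getP 12 g r) v) 6

theorem dV_mulVecC (g v : ℕ) : dV (mulVecC g v) = dM g *ᵥ dV v := by
  rw [mulVecC, dV_packP fun i _ => (dotC_spec _ _).1]
  funext i
  rw [(dotC_spec _ _).2]
  rfl

theorem mulVecC_lt (g v : ℕ) : mulVecC g v < 4096 :=
  packP_lt 2 _ 6 fun _ _ => (dotC_spec _ _).1

theorem scalC_lt (c v : ℕ) : scalC c v < 4096 := packP_lt 2 _ 6 fun _ _ => mulC_lt _ _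

/-- Bounded search. -/
noncomputable def anyN (n : ℕ) (f : ℕ → Bool) : Bool := Nat.rec false (fun i acc => f i || acc) n

theorem anyN_iff (n : ℕ) (f : ℕ → Bool) : anyN n f = true ↔ ∃ i < n, f i = true := by
  induction n with
  | zero => simp [anyN]
  | succ k ih =>
    have h : anyN (k + 1) f = (f k || anyN k f) := rfl
    rw [h, Bool.or_eq_true, ih]
    constructor
    · rintro (h | ⟨i, hi, h⟩)
      · exact ⟨k, Nat.lt_succ_self k, h⟩
      · exact ⟨i, Nat.lt_succ_of_lt hi, h⟩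
    · rintro ⟨i, hi, h⟩
      rcases Nat.lt_succ_iff_lt_or_eq.1 hi with hlt | rfl
      · exact Or.inr ⟨i, hlt, h⟩
      · exact Or.inl (by assumption)

theorem vec_ext_of_code {u u' : Vec} (h : eV u = eV u') : u = u' := by
  rw [← dV_eV u, ← dV_eV u', h]

end Cfsg.Agent.H41.SUSix
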