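import Cfsg.Agent.H41.SUSix.Code
import Cfsg.Agent.Unitary.Center

/-!
Monomial elements, block diagonal elements and the diagonal automorphism of SU6(2).
-/

set_option autoImplicit false

namespace Cfsg.Agent.H41.SUSix

open Cfsg Cfsg.Agent.Unitary Matrix

export Cfsg.Agent.Unitary (mat ap toSU Preserves)

/-- The group SU6(2). -/
abbrev SG : Subgroup (Matrix.SpecialLinearGroup (Fin 6) K4) := Cfsg.SU 6 K4 2

theorem hK : Fintype.card K4 = 2 ^ 2 := rfl

instance : Finite ↥SG := inferInstance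

theorem mat_mul (g h : ↥SG) : mat (g * h) = mat g * mat h := rfl

theorem mat_one : mat (1 : ↥SG) = 1 := rfl

theorem mat_ext {g h : ↥SG} (e : mat g = mat h) : g = h := Subtype.ext (Subtype.ext e)

theorem det_mat (g : ↥SG) : (mat g).det = 1 := (g : Matrix.SpecialLinearGroup (Fin 6) K4).2

theorem preserves_mat (g : ↥SG) : Preserves 2 (mat g) := g.2

theorem mat_inv_left (g : ↥SG) : mat g⁻¹ * mat g = 1 := by rw [← mat_mul, inv_mul_cancel, mat_one]

theorem mat_inv_right (g : ↥SG) : mat g * mat g⁻¹ = 1 := by rw [← mat_mul, mul_inv_cancel, mat_one]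

theorem preserves_mul {A B : Mat} (hA : Preserves 2 A) (hB : Preserves 2 B) :
    Preserves 2 (A * B) := fun u v => by
  rw [← Matrix.mulVec_mulVec, ← Matrix.mulVec_mulVec, hA, hB]

theorem cube_eq_one {x : K4} (h : x ≠ 0) : x * x ^ 2 = 1 := by
  revert h x
  decide +kernel

/-- A monomial matrix: the column `c` has the entry `d c` in the row `π c`. -/
def mono (d : Vec) (π : Equiv.Perm (Fin 6)) : Mat :=
  Matrix.of fun r c => if r = π c then d c else 0

theorem mono_apply (d : Vec) (π : Equiv.Perm (Fin 6)) (r c : Fin 6) :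
    mono d π r c = if r = π c then d c else 0 := rfl

theorem mono_mulVec (d : Vec) (π : Equiv.Perm (Fin 6)) (u : Vec) (c : Fin 6) :
    (mono d π *ᵥ u) (π c) = d c * u c := by
  rw [Matrix.mulVec, dotProduct, Finset.sum_eq_single c]
  · rw [mono_apply, if_pos rfl]
  · intro b _ hb
    rw [mono_apply, if_neg (fun h => hb (π.injective h).symm), zero_mul]
  · simp

theorem mono_mulVec_single (d : Vec) (π : Equiv.Perm (Fin 6)) (c : Fin 6) (a : K4) :
    mono d π *ᵥ Pi.single c a = Pi.single (π c) (d c * a) := by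
  funext r
  obtain ⟨b, rfl⟩ := π.surjective r
  rw [mono_mulVec]
  by_cases h : b = c
  · subst h
    rw [Pi.single_eq_same, Pi.single_eq_same]
  · rw [Pi.single_eq_of_ne h, Pi.single_eq_of_ne (π.injective.ne h), mul_zero]

theorem mono_mul (d d' : Vec) (π π' : Equiv.Perm (Fin 6)) :
    mono d π * mono d' π' = mono (fun c => d (π' c) * d' c) (π * π') := by
  refine Matrix.ext_iff_mulVec.2 fun u => funext fun r => ?_
  obtain ⟨c, rfl⟩ := (π * π').surjective r
  rw [mono_mulVec (fun c => d (π' c) * d' c), ← Matrix.mulVec_mulVec, Equiv.Perm.mul_apply,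
    mono_mulVec, mono_mulVec, mul_assoc]

theorem mono_one : mono (fun _ => 1) 1 = 1 := by
  refine Matrix.ext fun r c => ?_
  rw [mono_apply, Matrix.one_apply, Equiv.Perm.one_apply]

theorem mono_eq_diagonal (d : Vec) : mono d 1 = Matrix.diagonal d := by
  refine Matrix.ext fun r c => ?_
  rw [mono_apply, Matrix.diagonal_apply, Equiv.Perm.one_apply]
  by_cases h : r = c <;> simp [h]

theorem mono_inj {d d' : Vec} {π π' : Equiv.Perm (Fin 6)} (hd : ∀ c, d c ≠ 0)
    (h : mono d π = mono d' π') : d = d' ∧ π = π' := by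
  have hp : π = π' := by
    refine Equiv.ext fun c => ?_
    by_contra hne
    have := congrFun (congrFun h (π c)) c
    rw [mono_apply, mono_apply, if_pos rfl, if_neg hne] at this
    exact hd c this
  subst hp
  refine ⟨funext fun c => ?_, rfl⟩
  have := congrFun (congrFun h (π c)) c
  rwa [mono_apply, mono_apply, if_pos rfl, if_pos rfl] at this

theorem det_mono (d : Vec) (π : Equiv.Perm (Fin 6)) : (mono d π).det = ∏ c, d c := by
  have h : mono d π = (π⁻¹).permMatrix K4 * Matrix.diagonal d := by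
    refine Matrix.ext fun r c => ?_
    rw [Matrix.mul_diagonal, mono_apply]
    simp only [Equiv.Perm.permMatrix, PEquiv.toMatrix_apply, Equiv.toPEquiv_apply,
      Option.mem_some_iff]
    by_cases h : r = π c
    · rw [if_pos h, if_pos (by rw [h]; simp), one_mul]
    · rw [if_neg h, if_neg (fun e => h (by rw [← e]; simp)), zero_mul]
  rw [h, Matrix.det_mul, Matrix.det_diagonal, Matrix.det_permutation]
  rcases Int.units_eq_one_or (Equiv.Perm.sign π⁻¹) with e | e <;> rw [e]
  · simp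
  · rw [show (((-1 : ℤˣ) : ℤ) : K4) = 1 from by decide +kernel, one_mul]

theorem preserves_mono {d : Vec} (hd : ∀ c, d c ≠ 0) (π : Equiv.Perm (Fin 6)) :
    Preserves 2 (mono d π) := by
  intro u v
  show ∑ i, (mono d π *ᵥ u) i * (mono d π *ᵥ v) i ^ 2 = ∑ i, u i * v i ^ 2
  rw [← Equiv.sum_comp π]
  refine Finset.sum_congr rfl fun c _ => ?_
  rw [mono_mulVec, mono_mulVec, mul_pow]
  linear_combination (u c * v c ^ 2) * cube_eq_one (hd c)

theorem ne_zero_of_prod {d : Vec} (h : ∏ c, d c = 1) (c : Fin 6) : d c ≠ 0 := fun e =>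
  zero_ne_one ((Finset.prod_eq_zero (Finset.mem_univ c) e).symm.trans h)

/-- The monomial element. -/
def monoG (d : Vec) (π : Equiv.Perm (Fin 6)) (h : ∏ c, d c = 1) : ↥SG :=
  toSU (preserves_mono (ne_zero_of_prod h) π) ((det_mono d π).trans h)

theorem mat_monoG (d : Vec) (π : Equiv.Perm (Fin 6)) (h : ∏ c, d c = 1) :
    mat (monoG d π h) = mono d π := rfl

/-- The diagonal element. -/
def diagG (d : Vec) (h : ∏ c, d c = 1) : ↥SG := monoG d 1 h

/-- The permutation element; the characteristic is two. -/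
def pmG : Equiv.Perm (Fin 6) →* ↥SG :=
  MonoidHom.mk' (fun π => monoG (fun _ => 1) π (Finset.prod_const_one)) fun a b => mat_ext (by
    rw [mat_mul, mat_monoG, mat_monoG, mat_monoG, mono_mul]
    simp)

theorem mat_pmG (π : Equiv.Perm (Fin 6)) : mat (pmG π) = mono (fun _ => 1) π := rfl

theorem mono_eq_diag_mul (d : Vec) (π : Equiv.Perm (Fin 6)) (g : ↥SG) (h : mat g = mono d π) :
    ∃ hd : ∏ c, d (π⁻¹ c) = 1, g = diagG (fun c => d (π⁻¹ c)) hd * pmG π := by
  have hp : ∏ c, d c = 1 := by rw [← det_mono d π, ← h, det_mat]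
  refine ⟨(Equiv.prod_comp π⁻¹ d).trans hp, mat_ext ?_⟩
  rw [mat_mul, mat_pmG, diagG, mat_monoG, mono_mul, h]
  simp

/-- The monomial elements with an even permutation. -/
def Mgrp : Subgroup ↥SG where
  carrier := {g | ∃ d π, mat g = mono d π ∧ Equiv.Perm.sign π = 1}
  one_mem' := ⟨fun _ => 1, 1, by rw [mono_one, mat_one], map_one _⟩
  mul_mem' := by
    rintro a b ⟨d, π, hd, hp⟩ ⟨d', π', hd', hp'⟩
    exact ⟨_, _, by rw [mat_mul, hd, hd', mono_mul], by rw [map_mul, hp, hp', one_mul]⟩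
  inv_mem' := by
    rintro a ⟨d, π, hd, hp⟩
    have hp1 : ∏ c, d c = 1 := by rw [← det_mono d π, ← hd, det_mat]
    refine ⟨fun c => (d (π⁻¹ c))⁻¹, π⁻¹, ?_, by rw [map_inv, hp, inv_one]⟩
    have e : mat a * mono (fun c => (d (π⁻¹ c))⁻¹) π⁻¹ = 1 := by
      rw [hd, mono_mul, mul_inv_cancel, ← mono_one]
      congr 1
      exact funext fun c => mul_inv_cancel₀ (ne_zero_of_prod hp1 _)
    calc mat a⁻¹ = mat a⁻¹ * (mat a * mono (fun c => (d (π⁻¹ c))⁻¹) π⁻¹) := by rw [e, mul_one]
      _ = _ := by rw [← mul_assoc, mat_inv_left, one_mul]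

/-- The diagonal elements. -/
def Dgrp : Subgroup ↥SG where
  carrier := {g | ∃ d, mat g = mono d 1}
  one_mem' := ⟨fun _ => 1, by rw [mono_one, mat_one]⟩
  mul_mem' := by
    rintro a b ⟨d, hd⟩ ⟨d', hd'⟩
    exact ⟨_, by rw [mat_mul, hd, hd', mono_mul, mul_one]⟩
  inv_mem' := by
    rintro a ⟨d, hd⟩
    have hp1 : ∏ c, d c = 1 := by rw [← det_mono d 1, ← hd, det_mat]
    refine ⟨fun c => (d c)⁻¹, ?_⟩
    have e : mat a * mono (fun c => (d c)⁻¹) 1 = 1 := by
      rw [hd, mono_mul, mul_one, ← mono_one]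
      congr 1
      exact funext fun c => mul_inv_cancel₀ (ne_zero_of_prod hp1 _)
    calc mat a⁻¹ = mat a⁻¹ * (mat a * mono (fun c => (d c)⁻¹) 1) := by rw [e, mul_one]
      _ = _ := by rw [← mul_assoc, mat_inv_left, one_mul]

theorem D_le_M : Dgrp ≤ Mgrp := fun _ ⟨d, h⟩ => ⟨d, 1, h, map_one _⟩

theorem diagG_mem (d : Vec) (h : ∏ c, d c = 1) : diagG d h ∈ Dgrp := ⟨d, rfl⟩

theorem pmG_mem {π : Equiv.Perm (Fin 6)} (h : Equiv.Perm.sign π = 1) : pmG π ∈ Mgrp :=
  ⟨_, π, rfl, h⟩

theorem monoG_mem {d : Vec} {π : Equiv.Perm (Fin 6)} (h : ∏ c, d c = 1)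
    (hs : Equiv.Perm.sign π = 1) : monoG d π h ∈ Mgrp := ⟨d, π, rfl, hs⟩

/-- A primitive cube root of unity. -/
abbrev ω₄ : K4 := .w

/-- The diagonal matrix with `ω ^ i` in the first place. -/
def dl (i : Fin 3) : Mat := mono (Function.update (fun _ => (1 : K4)) 0 (ω₄ ^ i.1)) 1

theorem dl_ne (i : Fin 3) : ∀ c, Function.update (fun _ : Fin 6 => (1 : K4)) 0 (ω₄ ^ i.1) c ≠ 0 := by
  revert i
  decide +kernel

theorem preserves_dl (i : Fin 3) : Preserves 2 (dl i) := preserves_mono (dl_ne i) 1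

theorem det_dl (i : Fin 3) : (dl i).det = ω₄ ^ i.1 := by
  rw [dl, det_mono]
  revert i
  decide +kernel

theorem dl_mul (i j : Fin 3) : dl i * dl j = dl (i + j) := by
  rw [dl, dl, dl, mono_mul, mul_one]
  congr 1
  revert i j
  decide +kernel

theorem dl_zero : dl 0 = 1 := by
  rw [dl, ← mono_one]
  congr 1
  decide +kernel

theorem dl_neg_left (i : Fin 3) : dl (-i) * dl i = 1 := by rw [dl_mul, neg_add_cancel, dl_zero]

theorem dl_neg_right (i : Fin 3) : dl i * dl (-i) = 1 := by rw [dl_mul, add_neg_cancel, dl_zero]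

/-- Conjugation by `dl i` on matrices is a matrix of SU6(2). -/
def cjFun (i : Fin 3) (g : ↥SG) : ↥SG :=
  toSU (M := dl i * mat g * dl (-i))
    (preserves_mul (preserves_mul (preserves_dl i) (preserves_mat g)) (preserves_dl (-i))) (by
      rw [Matrix.det_mul, Matrix.det_mul, det_mat, mul_one, ← Matrix.det_mul, dl_neg_right,
        Matrix.det_one])

theorem mat_cjFun (i : Fin 3) (g : ↥SG) : mat (cjFun i g) = dl i * mat g * dl (-i) := rfl

/-- The automorphism given by `dl i`. -/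
def cj (i : Fin 3) : ↥SG ≃* ↥SG where
  toFun := cjFun i
  invFun := cjFun (-i)
  left_inv g := mat_ext (by
    rw [mat_cjFun, mat_cjFun, neg_neg, ← mul_assoc, ← mul_assoc, dl_neg_left, one_mul, mul_assoc,
      dl_neg_left, mul_one])
  right_inv g := mat_ext (by
    rw [mat_cjFun, mat_cjFun, neg_neg, ← mul_assoc, ← mul_assoc, dl_neg_right, one_mul, mul_assoc,
      dl_neg_right, mul_one])
  map_mul' g h := mat_ext (by
    rw [mat_mul, mat_cjFun, mat_cjFun, mat_cjFun, mat_mul]
    calc dl i * (mat g * mat h) * dl (-i)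
        = dl i * mat g * (dl (-i) * dl i) * mat h * dl (-i) := by
          rw [dl_neg_left, mul_one]; simp only [mul_assoc]
      _ = _ := by simp only [mul_assoc])

theorem mat_cj (i : Fin 3) (g : ↥SG) : mat (cj i g) = dl i * mat g * dl (-i) := rfl

theorem cj_mem_M (i : Fin 3) {g : ↥SG} (hg : g ∈ Mgrp) : cj i g ∈ Mgrp := by
  obtain ⟨d, π, hd, hp⟩ := hg
  exact ⟨_, _, by rw [mat_cj, hd, dl, dl, mono_mul, mono_mul], by rw [one_mul, mul_one, hp]⟩

theorem map_cj_M (i : Fin 3) : Mgrp.map (cj i).toMonoidHom = Mgrp := by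
  refine le_antisymm ?_ fun g hg => ⟨(cj i).symm g, cj_mem_M (-i) hg, (cj i).apply_symm_apply g⟩
  rintro _ ⟨g, hg, rfl⟩
  exact cj_mem_M i hg

/-- A block diagonal matrix. -/
def blk (A B : Matrix (Fin 3) (Fin 3) K4) : Mat :=
  Matrix.reindex finSumFinEquiv finSumFinEquiv (Matrix.fromBlocks A 0 0 B)

theorem blk_mul (A A' B B' : Matrix (Fin 3) (Fin 3) K4) :
    blk A B * blk A' B' = blk (A * A') (B * B') := by
  simp only [blk, Matrix.reindex_apply, Matrix.submatrix_mul_equiv, Matrix.fromBlocks_multiply]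
  simp

theorem det_blk (A B : Matrix (Fin 3) (Fin 3) K4) : (blk A B).det = A.det * B.det := by
  rw [blk, Matrix.det_reindex_self, Matrix.det_fromBlocks_zero₂₁]

end Cfsg.Agent.H41.SUSix
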