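import Cfsg.Agent.H41.SUSix.Check

/-!
The action on the 112 frames and its kernel.
-/

set_option autoImplicit false

namespace Cfsg.Agent.H41.SUSix

open Cfsg Cfsg.Agent.Compute Cfsg.Agent.H95 Cfsg.Agent.Unitary Matrix

attribute [local irreducible] mapsC multList distinct checkChain

/-- A point of a frame. -/
noncomputable def pt (j : Fin 112) (s : Fin 6) : Vec := dV (ptC j s)

theorem ptC_lt (j s : ℕ) : ptC j s < 4096 := getP_lt 12 _ _

theorem pt_zero (s : Fin 6) : pt 0 s = Pi.single s 1 := by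
  show dV (ptC 0 s) = _
  rw [std_frame, dV_eV]

theorem pt_inj {j j' : Fin 112} {s s' : Fin 6} {c c' : K4} (hc : c ≠ 0) (hc' : c' ≠ 0)
    (h : c • pt j s = c' • pt j' s') : j = j' ∧ s = s' ∧ c = c' := by
  have code : ∀ (j : Fin 112) (s : Fin 6) (c : K4), c ≠ 0 →
      ∃ m < 2016, c • pt j s = dV (scalC (m % 3 + 1) (ptC (m / 18) (m / 3 % 6))) ∧
        m / 18 = j ∧ m / 3 % 6 = s ∧ m % 3 + 1 = fc c := by
    intro j s c hc
    have h1 : 1 ≤ fc c ∧ fc c ≤ 3 := by
      revert hc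
      cases c <;> decide
    refine ⟨18 * j + 3 * s + (fc c - 1), by omega, ?_, by omega, by omega, by omega⟩
    rw [show (18 * (j : ℕ) + 3 * (s : ℕ) + (fc c - 1)) % 3 + 1 = fc c by omega,
      show (18 * (j : ℕ) + 3 * (s : ℕ) + (fc c - 1)) / 18 = j by omega,
      show (18 * (j : ℕ) + 3 * (s : ℕ) + (fc c - 1)) / 3 % 6 = s by omega,
      dV_scalC (fc_lt c), fe_fc]
    rfl
  obtain ⟨m, hm, e, ej, es, ec⟩ := code j s c hc
  obtain ⟨m', hm', e', ej', es', ec'⟩ := code j' s' c' hc'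
  have hmm : m = m' := by
    have hnd : (multList).Nodup := (distinct_sound _ _ mult_distinct).1
    rw [multList] at hnd
    refine List.inj_on_of_nodup_map hnd (List.mem_range.2 hm) (List.mem_range.2 hm') ?_
    exact dV_inj (scalC_lt _ _) (scalC_lt _ _) (e.symm.trans (h.trans e'))
  subst hmm
  exact ⟨Fin.ext (ej.symm.trans ej'), Fin.ext (es.symm.trans es'),
    by rw [← fe_fc c, ← ec, ec', fe_fc]⟩

/-- An element induces a permutation of the frames. -/
def Induces (g : ↥SG) (σ : Equiv.Perm (Fin 112)) : Prop :=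
  ∀ j s, ∃ (s' : Fin 6) (c : K4), c ≠ 0 ∧ ap g (pt j s) = c • pt (σ j) s'

theorem induces_one : Induces 1 1 := fun j s =>
  ⟨s, 1, one_ne_zero, by rw [ap_one, one_smul]; rfl⟩

theorem induces_mul (g h : ↥SG) (σ τ : Equiv.Perm (Fin 112)) (hg : Induces g σ) (hh : Induces h τ) :
    Induces (g * h) (σ * τ) := by
  intro j s
  obtain ⟨s', c, hc, e⟩ := hh j s
  obtain ⟨s'', c', hc', e'⟩ := hg (τ j) s'
  exact ⟨s'', c * c', mul_ne_zero hc hc', by
    rw [ap_mul, e, ap_smul, e', smul_smul]; rfl⟩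

theorem induces_unique (g : ↥SG) (σ τ : Equiv.Perm (Fin 112)) (hg : Induces g σ)
    (hg' : Induces g τ) : σ = τ := by
  refine Equiv.ext fun j => ?_
  obtain ⟨s, c, hc, e⟩ := hg j 0
  obtain ⟨s', c', hc', e'⟩ := hg' j 0
  exact (pt_inj hc hc' (e.symm.trans e')).1

/-- The elements permuting the frames. -/
def stab : Subgroup ↥SG := PermIso.domain Induces induces_one induces_mul

/-- The action on the frames. -/
noncomputable def theta : ↥stab →* Equiv.Perm (Fin 112) :=
  MonoidHom.mk' (fun g => Classical.choose g.2) fun a b =>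
    induces_unique _ _ _ (Classical.choose_spec (a * b).2)
      (induces_mul _ _ _ _ (Classical.choose_spec a.2) (Classical.choose_spec b.2))

theorem theta_eq {g : ↥stab} {σ : Equiv.Perm (Fin 112)} (h : Induces g σ) : theta g = σ :=
  induces_unique _ _ _ (Classical.choose_spec g.2) h

theorem induces_theta (g : ↥stab) : Induces g (theta g) := Classical.choose_spec g.2

theorem induces_of_maps {g : ↥SG} {gc : ℕ} (hg : mat g = dM gc) {a : ℕ}
    (ha : PermOK 7 112 a) (h : mapsC gc (fun i => getP 7 a i) = true) :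
    Induces g (permDen 7 112 a) := by
  intro j s
  unfold mapsC at h
  rw [allN_iff] at h
  have hj := h j j.2
  rw [Bool.and_eq_true, allN_iff] at hj
  obtain ⟨s', hs', h2⟩ := (anyN_iff _ _).1 (hj.2 s s.2)
  obtain ⟨c, hc, h3⟩ := (anyN_iff _ _).1 h2
  rw [Nat.beq_eq] at h3
  refine ⟨⟨s', hs'⟩, fe (c + 1), ?_, ?_⟩
  · interval_cases c <;> decide
  · have h3' : mulVecC gc (ptC j s) = scalC (c + 1) (ptC (getP 7 a j) s') := h3
    rw [ap_def, hg, pt, ← dV_mulVecC, h3', dV_scalC (by omega), pt, permDen_apply ha]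

/-- A scalar element. -/
def IsScalar (g : ↥SG) : Prop := ∃ c : K4, mat g = mono (fun _ => c) 1

theorem suppEq_of_smul {π : Equiv.Perm (Fin 6)} {d : Vec} (hd : ∀ c, d c ≠ 0) {u u' : ℕ} {c : K4}
    (hc : c ≠ 0) (h : mono d π *ᵥ dV u = c • dV u') :
    suppEq (fun c => if h : c < 6 then (π ⟨c, h⟩ : ℕ) else 0) u u' = true := by
  have hz : ∀ (w : ℕ) (i : Fin 6), dV w i = 0 ↔ Nat.beq (getP 2 w i) 0 = true := by
    intro w i
    rw [Nat.beq_eq]
    constructor
    · intro e
      have := congrArg fc e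
      rw [dV, fc_fe _ (getP_lt 2 _ _)] at this
      exact this
    · intro e
      rw [dV, e]
      rfl
  refine (allN_iff _ _).2 fun k hk => ?_
  have e := congrFun h (π ⟨k, hk⟩)
  rw [mono_mulVec, Pi.smul_apply, smul_eq_mul] at e
  have hiff : dV u ⟨k, hk⟩ = 0 ↔ dV u' (π ⟨k, hk⟩) = 0 := by
    constructor
    · intro e0
      rw [e0, mul_zero] at e
      exact (mul_eq_zero.1 e.symm).resolve_left hc
    · intro e0
      rw [e0, mul_zero] at e
      exact (mul_eq_zero.1 e).resolve_left (hd _)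
  rw [hz, hz] at hiff
  simp only [hk, dite_true]
  cases h1 : Nat.beq (getP 2 u k) 0 <;> simp only [h1] at hiff ⊢ <;>
    simp_all [← Bool.not_eq_true, Nat.beq_eq]

theorem isScalar_of_theta_one {g : ↥stab} (h : theta g = 1) : IsScalar (g : ↥SG) := by
  have hR := induces_theta g
  rw [h] at hR
  have h0 : ∀ s : Fin 6, ∃ (s' : Fin 6) (c : K4), c ≠ 0 ∧
      mat (g : ↥SG) *ᵥ Pi.single s 1 = c • Pi.single s' 1 := by
    intro s
    obtain ⟨s', c, hc, e⟩ := hR 0 s
    rw [Equiv.Perm.one_apply, pt_zero, pt_zero] at e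
    exact ⟨s', c, hc, e⟩
  choose f d hd e using h0
  have hf : Function.Injective f := by
    intro a b hab
    by_contra hne
    have h1 : ap (g : ↥SG) (d b • Pi.single a 1) = ap (g : ↥SG) (d a • Pi.single b 1) := by
      rw [ap_smul, ap_smul, ap_def, ap_def, e, e, hab, smul_smul, smul_smul, mul_comm]
    have h2 := congrFun (ap_injective _ h1) a
    rw [Pi.smul_apply, Pi.smul_apply, Pi.single_eq_same, Pi.single_eq_of_ne hne, smul_eq_mul,
      smul_eq_mul, mul_one, mul_zero] at h2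
    exact hd b h2
  let π : Equiv.Perm (Fin 6) := Equiv.ofBijective f (Finite.injective_iff_bijective.1 hf)
  have hg : mat (g : ↥SG) = mono d π := by
    refine Matrix.ext fun r c => ?_
    have := congrFun (e c) r
    rw [Matrix.mulVec_single_one] at this
    rw [mono_apply]
    refine this.trans ?_
    rw [Pi.smul_apply, Pi.single_apply, smul_eq_mul, mul_ite, mul_one, mul_zero]
    rfl
  have hfix : ∀ (j : Fin 112) (s : Fin 6), ∃ (s' : Fin 6) (c : K4), c ≠ 0 ∧
      mono d π *ᵥ dV (ptC j s) = c • dV (ptC j s') := by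
    intro j s
    obtain ⟨s', c, hc, e'⟩ := hR j s
    exact ⟨s', c, hc, by rw [← hg]; exact e'⟩
  have hπ : π = 1 := by
    refine (kernel_perm π).resolve_right fun hj => ?_
    obtain ⟨j, hjl, hj'⟩ := List.any_eq_true.1 hj
    have hj112 : j < 112 := by
      fin_cases hjl <;> norm_num
    obtain ⟨s, hs, h2⟩ := (anyN_iff _ _).1 hj'
    obtain ⟨s', c, hc, e'⟩ := hfix ⟨j, hj112⟩ ⟨s, hs⟩
    have h3 := (allN_iff _ _).1 h2 s' s'.2
    rw [suppEq_of_smul hd hc e'] at h3
    exact Bool.noConfusion h3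
  rw [hπ] at hg hfix
  have hcode : ∀ i : Fin 6, getP 2 (eV d) i = fc (d i) := getP_eV d
  have hv := (allN_iff _ _).1 kernel_diag (eV d) (eV_lt d)
  rw [Bool.or_eq_true, Bool.or_eq_true] at hv
  rcases hv with (hv | hv) | hv
  · exfalso
    rw [Bool.not_eq_true', ← Bool.not_eq_true, allN_iff] at hv
    refine hv fun i hi => ?_
    have := hcode ⟨i, hi⟩
    rw [this, Bool.not_eq_true', ← Bool.not_eq_true, Nat.beq_eq]
    intro e0
    refine hd ⟨i, hi⟩ ?_
    rw [← fe_fc (d ⟨i, hi⟩), e0]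
    rfl
  · refine ⟨d 0, ?_⟩
    rw [hg]
    congr 1
    funext i
    have h1 := (allN_iff _ _).1 hv i i.2
    rw [Nat.beq_eq, hcode, show getP 2 (eV d) 0 = fc (d 0) from hcode 0] at h1
    rw [← fe_fc (d i), h1, fe_fc]
  · exfalso
    obtain ⟨s, hs, h2⟩ := (anyN_iff _ _).1 hv
    obtain ⟨s', c, hc, e'⟩ := hfix 1 ⟨s, hs⟩
    have h3 := (allN_iff _ _).1 ((allN_iff _ _).1 h2 s' s'.2) (fc c - 1) (by
      have := fc_lt c
      omega)
    have hfc : fc c - 1 + 1 = fc c := by
      revert hc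
      cases c <;> decide
    rw [show Nat.add (fc c - 1) 1 = fc c from hfc, Bool.not_eq_true', ← Bool.not_eq_true,
      Nat.beq_eq] at h3
    refine h3 (dV_inj (packP_lt 2 _ 6 fun _ _ => mulC_lt _ _) (scalC_lt _ _) ?_)
    rw [dV_packP fun _ _ => mulC_lt _ _, dV_scalC (fc_lt c), fe_fc]
    refine Eq.trans (funext fun i => ?_) e'
    rw [show i = (1 : Equiv.Perm (Fin 6)) i from rfl, mono_mulVec, Equiv.Perm.one_apply,
      fe_mul _ (getP_lt 2 _ _) _ (getP_lt 2 _ _), hcode, fe_fc]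
    rfl

end Cfsg.Agent.H41.SUSix
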