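import Cfsg.Agent.H41.SUSix.Frames

/-!
The generators of the model and the monomial elements in it.
-/

set_option autoImplicit false
set_option Elab.async false
set_option maxRecDepth 100000
set_option maxHeartbeats 1000000

namespace Cfsg.Agent.H41.SUSix

open Cfsg Cfsg.Agent.Compute Cfsg.Agent.Unitary Matrix

/-- The generators. -/
noncomputable def genG (k : Fin 10) : ↥SG :=
  toSU (M := dM (gC k)) ((preserves_iff_transpose_mul hK).2 (gen_preserves k)) (gen_det k)

theorem mat_genG (k : Fin 10) : mat (genG k) = dM (gC k) := rfl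

/-- The model of 3.U4(3). -/
noncomputable def Kg : Subgroup ↥SG := Subgroup.closure (Set.range genG)

theorem genG_mem (k : Fin 10) : genG k ∈ Kg := Subgroup.subset_closure ⟨k, rfl⟩

/-- The diagonal entries of the first five generators. -/
def dd (k : Fin 5) : Vec :=
  Function.update (Function.update (fun _ => 1) 0 ω₄) k.succ (ω₄ * ω₄)

theorem gen_diag : ∀ k : Fin 5, dM (gC k) = mono (dd k) 1 := by decide +kernel

/-- A three-cycle through `0` and `1`. -/
def cyc (k : Fin 6) : Equiv.Perm (Fin 6) := Equiv.swap 0 k * Equiv.swap 0 1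

theorem gen_cyc : ∀ k : Fin 4,
    dM (gC (k + 5 : ℕ)) = mono (fun _ => 1) (cyc ⟨k + 2, by omega⟩) := by decide +kernel

theorem mat_pow_diag {g : ↥SG} {d : Vec} (h : mat g = mono d 1) (n : ℕ) :
    mat (g ^ n) = mono (fun c => d c ^ n) 1 := by
  induction n with
  | zero => simp only [pow_zero]; rw [mono_one, mat_one]
  | succ n ih =>
    rw [pow_succ, mat_mul, ih, h, mono_mul, mul_one]
    congr 1

/-- Exponent with respect to `ω ^ 2`. -/
def lg : K4 → ℕ
  | .w => 2
  | .v => 1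
  | _ => 0

theorem diag_decomp : ∀ v : Fin 4096, (∏ c, dV v c) = 1 →
    ∀ c, dV v c = dd 0 c ^ lg (dV v 1) * dd 1 c ^ lg (dV v 2) * dd 2 c ^ lg (dV v 3) *
      dd 3 c ^ lg (dV v 4) * dd 4 c ^ lg (dV v 5) := by
  decide +kernel

theorem D_le_K : Dgrp ≤ Kg := by
  rintro g ⟨d, hd⟩
  have hp : ∏ c, d c = 1 := by rw [← det_mono d 1, ← hd, det_mat]
  have h := diag_decomp ⟨eV d, eV_lt d⟩ (by rw [dV_eV]; exact hp)
  simp only [dV_eV] at h
  have hm : ∀ (k : Fin 5) (n : ℕ),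
      mat (genG (k.castLE (by norm_num)) ^ n) = mono (fun c => dd k c ^ n) 1 :=
    fun k n => mat_pow_diag ((mat_genG _).trans (gen_diag k)) n
  have e : g = genG ((0 : Fin 5).castLE (by norm_num)) ^ lg (d 1) *
      genG ((1 : Fin 5).castLE (by norm_num)) ^ lg (d 2) *
      genG ((2 : Fin 5).castLE (by norm_num)) ^ lg (d 3) *
      genG ((3 : Fin 5).castLE (by norm_num)) ^ lg (d 4) *
      genG ((4 : Fin 5).castLE (by norm_num)) ^ lg (d 5) := by
    refine mat_ext ?_
    simp only [mat_mul, hm, mono_mul, mul_one, hd, Equiv.Perm.one_apply]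
    congr 1
    exact funext h
  rw [e]
  have hg : ∀ (k : Fin 5) (n : ℕ), genG (k.castLE (by norm_num)) ^ n ∈ Kg := fun k n =>
    pow_mem (genG_mem _) n
  exact mul_mem (mul_mem (mul_mem (mul_mem (hg 0 _) (hg 1 _)) (hg 2 _)) (hg 3 _)) (hg 4 _)

/-- An element of the group of the three-cycles sending `k` to `j`. -/
def tr (k j : Fin 6) : Equiv.Perm (Fin 6) :=
  if k ≤ j then 1 else if j = 0 then cyc k else if j = 1 then cyc k * cyc k else
    cyc j * cyc j * cyc k

theorem even_decomp : ∀ π : Equiv.Perm (Fin 6), Equiv.Perm.sign π = 1 →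
    (fun π₁ : Equiv.Perm (Fin 6) =>
      (fun π₂ : Equiv.Perm (Fin 6) =>
        (fun π₃ : Equiv.Perm (Fin 6) => π₃ = 1 ∨ π₃ = cyc 2 ∨ π₃ = cyc 2 * cyc 2)
          ((tr 3 (π₂ 3))⁻¹ * π₂))
        ((tr 4 (π₁ 4))⁻¹ * π₁))
      ((tr 5 (π 5))⁻¹ * π) := by
  decide +kernel

theorem pm_cyc_mem (k : Fin 6) (hk : 2 ≤ k.1) : pmG (cyc k) ∈ Kg := by
  have h := gen_cyc ⟨k - 2, by omega⟩
  have e : pmG (cyc k) = genG ⟨k - 2 + 5, by omega⟩ := by
    refine mat_ext ?_
    rw [mat_pmG, mat_genG]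
    refine Eq.trans ?_ h.symm
    congr
    refine Fin.ext ?_
    show (k : ℕ) = k - 2 + 2
    omega
  exact e ▸ genG_mem _

theorem pm_tr_mem (k j : Fin 6) (hk : 2 ≤ k.1) : pmG (tr k j) ∈ Kg := by
  unfold tr
  split_ifs with h1 h2 h3
  · rw [map_one]; exact one_mem _
  · exact pm_cyc_mem k hk
  · rw [map_mul]; exact mul_mem (pm_cyc_mem k hk) (pm_cyc_mem k hk)
  · rw [map_mul, map_mul]
    have hj : 2 ≤ j.1 := by
      rw [Fin.ext_iff] at h2 h3
      simp at h2 h3
      omega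
    exact mul_mem (mul_mem (pm_cyc_mem j hj) (pm_cyc_mem j hj)) (pm_cyc_mem k hk)

theorem pm_even_mem {π : Equiv.Perm (Fin 6)} (h : Equiv.Perm.sign π = 1) : pmG π ∈ Kg := by
  have h1 := even_decomp π h
  simp only at h1
  have step : ∀ (k : Fin 6) (σ : Equiv.Perm (Fin 6)), 2 ≤ k.1 →
      pmG ((tr k (σ k))⁻¹ * σ) ∈ Kg → pmG σ ∈ Kg := by
    intro k σ hk hm
    have := mul_mem (pm_tr_mem k (σ k) hk) hm
    rwa [← map_mul, mul_inv_cancel_left] at this
  refine step 5 π (by decide) (step 4 _ (by decide) (step 3 _ (by decide) ?_))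
  rcases h1 with e | e | e <;> rw [e]
  · rw [map_one]; exact one_mem _
  · exact pm_cyc_mem 2 (by decide)
  · rw [map_mul]; exact mul_mem (pm_cyc_mem 2 (by decide)) (pm_cyc_mem 2 (by decide))

theorem M_le_K : Mgrp ≤ Kg := by
  rintro g ⟨d, π, hd, hp⟩
  obtain ⟨h, e⟩ := mono_eq_diag_mul d π g hd
  rw [e]
  exact mul_mem (D_le_K (diagG_mem _ h)) (pm_even_mem hp)

end Cfsg.Agent.H41.SUSix
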