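import Cfsg.Agent.H41.SUSix.Gens

/-!
The model: order, centre, quotient and the monomial elements it contains.
-/

set_option autoImplicit false

namespace Cfsg.Agent.H41.SUSix

open Cfsg Cfsg.Agent.Compute Cfsg.Agent.H95 Cfsg.Agent.Unitary Matrix

attribute [local irreducible] mapsC checkChain sift invPerm PermIso.slpOK multList distinct tauPair
  slpTab UFourThree.u43Chain

theorem two_pow_seven : (112 : ℕ) ≤ 2 ^ 7 := by norm_num

theorem pc_facts {k : ℕ} (hk : k < 10) : PermOK 7 112 (pc k) ∧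
    permDen 7 112 (pc k) ∈ UFourThree.chainGrp := by
  have h := (allN_iff _ _).1 pc_ok k hk
  rw [Bool.and_eq_true] at h
  obtain ⟨o, -, -⟩ := (permSound 7 112 two_pow_seven).okInv_sound h.1
  exact ⟨o, ((checkChain_sound (permSound 7 112 two_pow_seven) UFourThree.chain_ok).sift_iff
    _ o).1 h.2⟩

theorem genG_induces (k : Fin 10) : Induces (genG k) (permDen 7 112 (pc k)) :=
  induces_of_maps (mat_genG k) (pc_facts k.2).1 ((allN_iff _ _).1 maps_ok k k.2)

theorem K_le_stab : Kg ≤ stab :=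
  (Subgroup.closure_le _).2 (by rintro _ ⟨k, rfl⟩; exact ⟨_, genG_induces k⟩)

/-- The action of the model on the frames. -/
noncomputable def thetaK : ↥Kg →* Equiv.Perm (Fin 112) :=
  theta.comp (Subgroup.inclusion K_le_stab)

theorem thetaK_eq {g : ↥Kg} {σ : Equiv.Perm (Fin 112)} (h : Induces g σ) : thetaK g = σ :=
  theta_eq (g := Subgroup.inclusion K_le_stab g) h

theorem thetaK_mem (g : ↥Kg) : thetaK g ∈ UFourThree.chainGrp := by
  obtain ⟨g, hg⟩ := g
  suffices h : ∀ x ∈ Subgroup.closure (Set.range genG), ∃ σ ∈ UFourThree.chainGrp, Induces x σ by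
    obtain ⟨σ, hσ, hi⟩ := h g hg
    rw [thetaK_eq (g := ⟨g, hg⟩) hi]
    exact hσ
  intro x hx
  induction hx using Subgroup.closure_induction with
  | mem y hy =>
    obtain ⟨k, rfl⟩ := hy
    exact ⟨_, (pc_facts k.2).2, genG_induces k⟩
  | one => exact ⟨1, one_mem _, induces_one⟩
  | mul a b _ _ ha hb =>
    obtain ⟨σ, hσ, hi⟩ := ha
    obtain ⟨τ, hτ, hj⟩ := hb
    exact ⟨_, mul_mem hσ hτ, induces_mul _ _ _ _ hi hj⟩
  | inv a ha' ha =>
    obtain ⟨σ, hσ, hi⟩ := ha
    refine ⟨σ⁻¹, inv_mem hσ, ?_⟩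
    have hK : a ∈ Kg := ha'
    have e : thetaK (⟨a, hK⟩ : ↥Kg)⁻¹ = σ⁻¹ := by rw [map_inv, thetaK_eq (g := ⟨a, hK⟩) hi]
    rw [← e]
    exact induces_theta (Subgroup.inclusion K_le_stab (⟨a, hK⟩ : ↥Kg)⁻¹)

theorem range_thetaK : thetaK.range = UFourThree.chainGrp := by
  refine le_antisymm (by rintro _ ⟨g, rfl⟩; exact thetaK_mem g) ?_
  refine le_trans (PermIso.grp_le two_pow_seven slp_ok) ((Subgroup.closure_le _).2 ?_)
  rintro _ ⟨k, hk, rfl⟩
  exact ⟨⟨genG ⟨k, hk⟩, genG_mem _⟩, thetaK_eq (genG_induces ⟨k, hk⟩)⟩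

theorem scalar_mem_D {g : ↥SG} (h : IsScalar g) : g ∈ Dgrp := by
  obtain ⟨c, hc⟩ := h
  exact ⟨_, hc⟩

theorem scalar_mem_center {g : ↥SG} (h : IsScalar g) : g ∈ Subgroup.center ↥SG := by
  obtain ⟨c, hc⟩ := h
  rw [Subgroup.mem_center_iff]
  intro x
  refine mat_ext ?_
  have e : mono (fun _ => c) 1 = c • (1 : Mat) := by
    rw [mono_eq_diagonal, Matrix.smul_one_eq_diagonal]
  rw [mat_mul, mat_mul, hc, e, Matrix.mul_smul, Matrix.smul_mul, mul_one, one_mul]

theorem thetaK_eq_one_iff (g : ↥Kg) : thetaK g = 1 ↔ IsScalar (g : ↥SG) := by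
  constructor
  · exact fun h => isScalar_of_theta_one (g := Subgroup.inclusion K_le_stab g) h
  · rintro ⟨c, hc⟩
    refine thetaK_eq fun j s => ⟨s, c, ?_, ?_⟩
    · rintro rfl
      have h := det_mat (g : ↥SG)
      rw [hc, det_mono] at h
      simp at h
    · rw [ap_def, hc, mono_eq_diagonal]
      funext i
      rw [Matrix.mulVec_diagonal, Pi.smul_apply, Equiv.Perm.one_apply, smul_eq_mul]

/-- A monomial matrix commuting with all permutation matrices is scalar. -/
theorem isScalar_of_comm {z : ↥SG} (hD : ∀ x ∈ Dgrp, z * x = x * z)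
    (hP : ∀ π : Equiv.Perm (Fin 6), Equiv.Perm.sign π = 1 → z * pmG π = pmG π * z) :
    IsScalar z := by
  -- off-diagonal entries vanish
  have hoff : ∀ r c, r ≠ c → mat z r c = 0 := by
    intro r c hrc
    let d : Vec := Function.update (Function.update (fun _ => 1) r ω₄) c (ω₄ * ω₄)
    have hd : ∏ i, d i = 1 := by
      have : ∀ r c : Fin 6, r ≠ c → ∏ i, Function.update
          (Function.update (fun _ => (1 : K4)) r ω₄) c (ω₄ * ω₄) i = 1 := by decide +kernel
      exact this r c hrc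
    have h := congrFun (congrFun (congrArg mat (hD _ (diagG_mem d hd))) r) c
    rw [mat_mul, mat_mul, diagG, mat_monoG, mono_eq_diagonal, Matrix.mul_diagonal,
      Matrix.diagonal_mul] at h
    have h1 : d c = ω₄ * ω₄ := Function.update_self _ _ _
    have h2 : d r = ω₄ := by
      show Function.update _ c _ r = _
      rw [Function.update_of_ne hrc, Function.update_self]
    rw [h1, h2] at h
    have key : ∀ x : K4, x * (ω₄ * ω₄) = ω₄ * x → x = 0 := by decide +kernel
    exact key _ h
  refine ⟨mat z 0 0, Matrix.ext fun r c => ?_⟩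
  rw [mono_apply, Equiv.Perm.one_apply]
  by_cases hrc : r = c
  · subst hrc
    rw [if_pos rfl]
    by_cases h0 : r = 0
    · rw [h0]
    obtain ⟨π, hπ, hπr⟩ : ∃ π : Equiv.Perm (Fin 6), Equiv.Perm.sign π = 1 ∧ π 0 = r := by
      have : ∀ r : Fin 6, r ≠ 0 → ∃ π : Equiv.Perm (Fin 6),
          (∃ a b : Fin 6, a ≠ b ∧ π = Equiv.swap 0 r * Equiv.swap a b ∧ π 0 = r) := by
        intro r hr
        obtain ⟨a, b, hab, ha, hb⟩ : ∃ a b : Fin 6, a ≠ b ∧ a ≠ 0 ∧ b ≠ 0 := ⟨1, 2, by decide⟩
        exact ⟨_, a, b, hab, rfl, by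
          rw [Equiv.Perm.mul_apply, Equiv.swap_apply_of_ne_of_ne ha.symm hb.symm,
            Equiv.swap_apply_left]⟩
      obtain ⟨π, a, b, hab, e, h⟩ := this r h0
      exact ⟨π, by rw [e, map_mul, Equiv.Perm.sign_swap (Ne.symm h0), Equiv.Perm.sign_swap hab]; rfl, h⟩
    have hdiag : mat z = Matrix.diagonal (fun i => mat z i i) := by
      refine Matrix.ext fun i j => ?_
      rw [Matrix.diagonal_apply]
      by_cases hij : i = j
      · rw [if_pos hij, hij]
      · rw [if_neg hij, hoff i j hij]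
    have h := congrFun (congrFun (congrArg mat (hP π hπ)) r) 0
    rw [mat_mul, mat_mul, hdiag, mat_pmG, Matrix.diagonal_mul, Matrix.mul_diagonal, mono_apply,
      if_pos hπr.symm, mul_one, one_mul] at h
    exact h
  · rw [if_neg hrc]
    exact hoff r c hrc

set_option maxRecDepth 10000 in
theorem pm_swap_notMem : pmG (Equiv.swap 0 1) ∉ Kg := by
  intro h
  have hb := tau_ok
  rw [Bool.and_eq_true, Bool.not_eq_true'] at hb
  obtain ⟨o, -, -⟩ := (permSound 7 112 two_pow_seven).okInv_sound hb.1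
  have hm : mat (pmG (Equiv.swap 0 1)) = dM (eV (fun c => if c = 1 then 1 else 0) +
      4096 * (eV (fun c => if c = 0 then 1 else 0) +
      4096 * (eV (fun c => if c = 2 then 1 else 0) + 4096 * (eV (fun c => if c = 3 then 1 else 0) +
      4096 * (eV (fun c => if c = 4 then 1 else 0) +
      4096 * eV (fun c => if c = 5 then 1 else 0)))))) := by
    rw [mat_pmG]
    decide +kernel
  have hi := induces_of_maps hm o tau_maps
  have hmem : permDen 7 112 tauPair.1 ∈ UFourThree.chainGrp :=
    thetaK_eq (g := ⟨_, h⟩) hi ▸ thetaK_mem _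
  have hsift := ((checkChain_sound (permSound 7 112 two_pow_seven)
    UFourThree.chain_ok).sift_iff _ o).2 hmem
  rw [hb.2] at hsift
  exact Bool.noConfusion hsift

/-- The monomial elements of the model have even permutations. -/
theorem mono_mem_M {H : Subgroup ↥SG} (hM : Mgrp ≤ H) (hτ : pmG (Equiv.swap 0 1) ∉ H)
    {g : ↥SG} (hg : g ∈ H) {d : Vec} {π : Equiv.Perm (Fin 6)} (h : mat g = mono d π) :
    g ∈ Mgrp := by
  refine ⟨d, π, h, ?_⟩
  rcases Int.units_eq_one_or (Equiv.Perm.sign π) with e | e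
  · exact e
  exfalso
  obtain ⟨hd, e1⟩ := mono_eq_diag_mul d π g h
  have h1 : pmG π ∈ H := by
    rw [e1] at hg
    exact (Subgroup.mul_mem_cancel_left H (hM (D_le_M (diagG_mem _ hd)))).1 hg
  have h2 : pmG (π * Equiv.swap 0 1) ∈ Mgrp :=
    pmG_mem (by rw [map_mul, e, Equiv.Perm.sign_swap (by decide)]; rfl)
  exact hτ ((Subgroup.mul_mem_cancel_left H h1).1 (by rw [← map_mul]; exact hM h2))

/-- A matrix normalising the diagonal group is monomial. -/
theorem mono_of_normalizes {g : ↥SG} (h : ∀ x ∈ Dgrp, g⁻¹ * x * g ∈ Dgrp) :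
    ∃ d π, mat g = mono d π := by
  have one : ∀ c a b : Fin 6, a ≠ b → mat g a c = 0 ∨ mat g b c = 0 := by
    intro c a b hab
    let d : Vec := Function.update (Function.update (fun _ => 1) a ω₄) b (ω₄ * ω₄)
    have hd : ∏ i, d i = 1 := by
      have : ∀ r c : Fin 6, r ≠ c → ∏ i, Function.update
          (Function.update (fun _ => (1 : K4)) r ω₄) c (ω₄ * ω₄) i = 1 := by decide +kernel
      exact this a b hab
    obtain ⟨e, he⟩ := h _ (diagG_mem d hd)
    have h1 : mat (diagG d hd) * mat g = mat g * mono e 1 := by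
      rw [← he, ← mat_mul, ← mat_mul, mul_assoc g⁻¹, mul_inv_cancel_left]
    rw [diagG, mat_monoG, mono_eq_diagonal, mono_eq_diagonal] at h1
    have ha := congrFun (congrFun h1 a) c
    have hb := congrFun (congrFun h1 b) c
    rw [Matrix.diagonal_mul, Matrix.mul_diagonal] at ha hb
    have h2 : d a = ω₄ := by
      show Function.update _ b _ a = _
      rw [Function.update_of_ne hab, Function.update_self]
    have h3 : d b = ω₄ * ω₄ := Function.update_self _ _ _
    rw [h2] at ha
    rw [h3] at hb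
    have key : ∀ x y l : K4, ω₄ * x = x * l → ω₄ * ω₄ * y = y * l → x = 0 ∨ y = 0 := by
      decide +kernel
    exact key _ _ _ ha hb
  have ex : ∀ c, ∃ r, mat g r c ≠ 0 := by
    intro c
    by_contra hc
    push Not at hc
    have := det_mat g
    rw [Matrix.det_eq_zero_of_column_eq_zero c hc] at this
    exact zero_ne_one this
  choose f hf using ex
  have hinj : Function.Injective f := by
    intro a b hab
    by_contra hne
    have hcol : ∀ r, r ≠ f a → mat g r a = 0 ∧ mat g r b = 0 := fun r hr =>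
      ⟨(one a r (f a) hr).resolve_right (hf a),
        (one b r (f a) hr).resolve_right (by rw [hab]; exact hf b)⟩
    have h1 : ap g (mat g (f a) b • Pi.single a 1) = ap g (mat g (f a) a • Pi.single b 1) := by
      funext r
      rw [ap_smul, ap_smul, ap_def, ap_def, Matrix.mulVec_single_one, Matrix.mulVec_single_one]
      show mat g (f a) b * mat g r a = mat g (f a) a * mat g r b
      by_cases hr : r = f a
      · rw [hr]; ring
      · rw [(hcol r hr).1, (hcol r hr).2, mul_zero, mul_zero]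
    have h2 := congrFun (ap_injective g h1) a
    rw [Pi.smul_apply, Pi.smul_apply, Pi.single_eq_same, Pi.single_eq_of_ne hne, smul_eq_mul,
      smul_eq_mul, mul_one, mul_zero, hab] at h2
    exact hf b h2
  refine ⟨fun c => mat g (f c) c, Equiv.ofBijective f (Finite.injective_iff_bijective.1 hinj),
    Matrix.ext fun r c => ?_⟩
  rw [mono_apply]
  show _ = if r = f c then _ else 0
  by_cases hr : r = f c
  · rw [if_pos hr, hr]
  · rw [if_neg hr]
    exact (one c r (f c) hr).resolve_right (hf c)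

/-- The image of the diagonal group. -/
noncomputable def Ebar : Subgroup (Equiv.Perm (Fin 112)) :=
  (Dgrp.subgroupOf Kg).map thetaK

/-- The image of the monomial group. -/
noncomputable def Nbar : Subgroup (Equiv.Perm (Fin 112)) :=
  (Mgrp.subgroupOf Kg).map thetaK

theorem D_conj_M {m x : ↥SG} (hm : m ∈ Mgrp) (hx : x ∈ Dgrp) : m * x * m⁻¹ ∈ Dgrp := by
  obtain ⟨d, π, hd, -⟩ := hm
  obtain ⟨e, he⟩ := hx
  refine ⟨fun c => e (π⁻¹ c), ?_⟩
  rw [mat_mul, mat_mul, hd, he, mono_mul, mul_one]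
  have h : mono (fun c => d ((1 : Equiv.Perm (Fin 6)) c) * e c) π =
      mono (fun c => e (π⁻¹ c)) 1 * mono d π := by
    rw [mono_mul, one_mul]
    congr 1
    exact funext fun c => by simp [mul_comm]
  rw [h, mul_assoc, ← hd, mat_inv_right, mul_one]

/-- The normaliser of the diagonal group in the model is the monomial group. -/
theorem mem_M_of_normalizes {g : ↥SG} (hg : g ∈ Kg) (h : ∀ x ∈ Dgrp, g⁻¹ * x * g ∈ Dgrp) :
    g ∈ Mgrp := by
  obtain ⟨d, π, e⟩ := mono_of_normalizes h
  exact mono_mem_M M_le_K pm_swap_notMem hg e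

theorem center_Kg : Subgroup.center ↥Kg = thetaK.ker := by
  refine le_antisymm (fun z hz => ?_) fun z hz => ?_
  · rw [MonoidHom.mem_ker, thetaK_eq_one_iff]
    rw [Subgroup.mem_center_iff] at hz
    exact isScalar_of_comm (fun x hx => congrArg Subtype.val (hz ⟨x, D_le_K hx⟩).symm)
      fun π hπ => congrArg Subtype.val (hz ⟨_, pm_even_mem hπ⟩).symm
  · rw [MonoidHom.mem_ker, thetaK_eq_one_iff] at hz
    rw [Subgroup.mem_center_iff]
    intro x
    exact Subtype.ext (Subgroup.mem_center_iff.1 (scalar_mem_center hz) x.1)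

theorem exists_scalar (c : K4) (h : c ≠ 0) :
    ∃ g : ↥Kg, mat (g : ↥SG) = mono (fun _ => c) 1 := by
  have hp : ∏ _i : Fin 6, c = 1 := by
    revert h
    revert c
    decide +kernel
  exact ⟨⟨diagG (fun _ => c) hp, D_le_K (diagG_mem _ hp)⟩, rfl⟩

theorem card_ker : Nat.card thetaK.ker = 3 := by
  classical
  let f : thetaK.ker → {c : K4 // c ≠ 0} := fun g =>
    ⟨mat ((g : ↥Kg) : ↥SG) 0 0, by
      obtain ⟨c, hc⟩ := (thetaK_eq_one_iff _).1 g.2
      rw [hc, mono_apply]
      intro h
      simp only [Equiv.Perm.one_apply, if_true] at h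
      subst h
      have := det_mat ((g : ↥Kg) : ↥SG)
      rw [hc, det_mono] at this
      simp at this⟩
  have hbij : Function.Bijective f := by
    constructor
    · intro g g' h
      obtain ⟨c, hc⟩ := (thetaK_eq_one_iff _).1 g.2
      obtain ⟨c', hc'⟩ := (thetaK_eq_one_iff _).1 g'.2
      have h' : mat ((g : ↥Kg) : ↥SG) 0 0 = mat ((g' : ↥Kg) : ↥SG) 0 0 := congrArg Subtype.val h
      rw [hc, hc', mono_apply, mono_apply] at h'
      simp only [Equiv.Perm.one_apply, if_true] at h'
      refine Subtype.ext (Subtype.ext (mat_ext ?_))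
      rw [hc, hc', h']
    · rintro ⟨c, hc⟩
      obtain ⟨g, hg⟩ := exists_scalar c hc
      refine ⟨⟨g, (thetaK_eq_one_iff g).2 ⟨c, hg⟩⟩, Subtype.ext ?_⟩
      show mat (g : ↥SG) 0 0 = c
      rw [hg, mono_apply]
      simp
  rw [Nat.card_congr (Equiv.ofBijective f hbij), Nat.card_eq_fintype_card]
  decide +kernel

theorem card_comap {A B : Type*} [Group A] [Finite A] [Group B] (f : A →* B) (P : Subgroup B)
    (hP : P ≤ f.range) : Nat.card (P.comap f) = Nat.card f.ker * Nat.card P := by
  have e : (P.comap f).map f = P := Subgroup.map_comap_eq_self hP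
  have hk : f.ker ≤ P.comap f := fun x hx => by
    rw [Subgroup.mem_comap, MonoidHom.mem_ker.1 hx]; exact one_mem _
  have h := Subgroup.card_mul_index ((f.comp (P.comap f).subtype).ker)
  rw [Subgroup.index_ker] at h
  have e1 : (f.comp (P.comap f).subtype).range = P := by
    rw [MonoidHom.range_comp, Subgroup.range_subtype, e]
  have e2 : Nat.card (f.comp (P.comap f).subtype).ker = Nat.card f.ker := by
    refine Nat.card_congr
      ⟨fun x => ⟨x.1.1, x.2⟩, fun x => ⟨⟨x.1, hk x.2⟩, x.2⟩, fun x => rfl, fun x => rfl⟩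
  rw [e1, e2] at h
  exact h.symm

theorem card_Kg : Nat.card Kg = 3 * 3265920 := by
  have h := Subgroup.card_mul_index thetaK.ker
  rw [Subgroup.index_ker, range_thetaK, UFourThree.card_chainGrp, card_ker] at h
  exact h.symm

theorem card_D : Nat.card Dgrp = 243 := by
  let f : Dgrp → {d : Vec // ∏ c, d c = 1} := fun g => ⟨fun c => mat (g : ↥SG) c c, by
    obtain ⟨d, hd⟩ := g.2
    have h := det_mat (g : ↥SG)
    rw [hd, det_mono] at h
    refine Eq.trans (Finset.prod_congr rfl fun c _ => ?_) h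
    show mat (g : ↥SG) c c = d c
    rw [hd, mono_apply, Equiv.Perm.one_apply, if_pos rfl]⟩
  have hbij : Function.Bijective f := by
    constructor
    · intro g g' h
      obtain ⟨d, hd⟩ := g.2
      obtain ⟨d', hd'⟩ := g'.2
      refine Subtype.ext (mat_ext ?_)
      rw [hd, hd']
      congr 1
      funext c
      have := congrFun (congrArg Subtype.val h) c
      simp only [f, hd, hd', mono_apply, Equiv.Perm.one_apply, if_true] at this
      exact this
    · rintro ⟨d, hd⟩
      exact ⟨⟨diagG d hd, diagG_mem d hd⟩, Subtype.ext (funext fun c => by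
        simp [f, diagG, mat_monoG, mono_apply])⟩
  rw [Nat.card_congr (Equiv.ofBijective f hbij)]
  let e : {d : Vec // ∏ c, d c = 1} ≃ {v : Fin 4096 // ∏ c, dV v c = 1} :=
    { toFun := fun d => ⟨⟨eV d.1, eV_lt d.1⟩, by simp only [dV_eV]; exact d.2⟩
      invFun := fun v => ⟨dV v.1, v.2⟩
      left_inv := fun d => Subtype.ext (dV_eV d.1)
      right_inv := fun v => Subtype.ext (Fin.ext (eV_dV v.1.2)) }
  rw [Nat.card_congr e, Nat.card_eq_fintype_card]
  decide +kernel

theorem card_M : Nat.card Mgrp = 243 * 360 := by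
  classical
  have h360 : Nat.card (alternatingGroup (Fin 6)) = 360 := by
    rw [nat_card_alternatingGroup, Nat.card_fin]
    decide
  let f : Dgrp × alternatingGroup (Fin 6) → Mgrp := fun x =>
    ⟨(x.1 : ↥SG) * pmG x.2.1, mul_mem (D_le_M x.1.2) (pmG_mem x.2.2)⟩
  have hbij : Function.Bijective f := by
    constructor
    · rintro ⟨⟨g, d, hd⟩, π, hπ⟩ ⟨⟨g', d', hd'⟩, π', hπ'⟩ h
      have h' : mat (g * pmG π) = mat (g' * pmG π') :=
        congrArg mat (congrArg Subtype.val h)
      rw [mat_mul, mat_mul, hd, hd', mat_pmG, mat_pmG, mono_mul, mono_mul, one_mul, one_mul] at h'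
      have hdp : ∏ c, d c = 1 := by rw [← det_mono d 1, ← hd, det_mat]
      obtain ⟨e1, e2⟩ := mono_inj (fun c => by rw [mul_one]; exact ne_zero_of_prod hdp _) h'
      subst e2
      have e3 : d = d' := funext fun c => by
        have := congrFun e1 (π⁻¹ c)
        simpa using this
      exact Prod.ext (Subtype.ext (mat_ext (by rw [hd, hd', e3]))) rfl
    · rintro ⟨g, d, π, hd, hπ⟩
      obtain ⟨h, e⟩ := mono_eq_diag_mul d π g hd
      exact ⟨⟨⟨_, diagG_mem _ h⟩, π, hπ⟩, Subtype.ext e.symm⟩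
  rw [← Nat.card_congr (Equiv.ofBijective f hbij), Nat.card_prod, card_D, h360]

end Cfsg.Agent.H41.SUSix
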