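import Cfsg.Agent.H41.SUSix.Gens

/-!
Representatives for the block diagonal elements centralising an element of type (3|3).
-/

set_option autoImplicit false
set_option Elab.async false
set_option maxRecDepth 100000
set_option maxHeartbeats 1000000
set_option synthInstance.maxHeartbeats 400000
set_option synthInstance.maxSize 2000

namespace Cfsg.Agent.H41.SUSix

open Cfsg Cfsg.Agent.Unitary Matrix

/-- Three by three matrices. -/
abbrev Mat3 : Type := Matrix (Fin 3) (Fin 3) K4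

/-- Representatives of GU3(2) modulo its monomial subgroup. -/
def Y : Fin 4 → Mat3
  | 0 => 1
  | 1 => Matrix.of fun r c => fe (![![1, 1, 1], ![1, 2, 3], ![1, 3, 2]] r c)
  | 2 => Matrix.of fun r c => fe (![![1, 1, 3], ![1, 2, 2], ![2, 1, 2]] r c)
  | 3 => Matrix.of fun r c => fe (![![1, 1, 2], ![1, 2, 1], ![3, 2, 2]] r c)

/-- Their inverses. -/
def Yinv (i : Fin 4) : Mat3 := ((Y i).map (fun x => x ^ 2)).transpose

theorem Y_facts : ∀ i, (Y i).transpose * (Y i).map (fun x => x ^ 2) = 1 ∧ (Y i).det = 1 ∧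
    Yinv i * Y i = 1 := by
  decide +kernel

theorem gu3_cases : ∀ a : Fin 3 → K4, (∑ i, a i * a i ^ 2 = 1) → ∀ b : Fin 3 → K4,
    (∑ i, a i * b i ^ 2 = 0) → (∑ i, b i * b i ^ 2 = 1) → ∀ c : Fin 3 → K4,
    (∑ i, a i * c i ^ 2 = 0) → (∑ i, b i * c i ^ 2 = 0) → (∑ i, c i * c i ^ 2 = 1) →
    ∃ i : Fin 4, ∀ r : Fin 3, ∃ k : Fin 3, ∀ l, l ≠ k →
      (∑ s, ![a r, b r, c r] s * Yinv i s l) = 0 := by
  decide +kernel

theorem gu3 (A : Mat3) (h : A.transpose * A.map (fun x => x ^ 2) = 1) :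
    ∃ i : Fin 4, ∀ r : Fin 3, ∃ k : Fin 3, ∀ l, l ≠ k → (A * Yinv i) r l = 0 := by
  have e : ∀ s t : Fin 3, ∑ i, A i s * A i t ^ 2 = if s = t then 1 else 0 := by
    intro s t
    have := congrFun (congrFun h s) t
    rw [Matrix.one_apply] at this
    exact this
  obtain ⟨i, hi⟩ := gu3_cases (fun r => A r 0) (by simpa using e 0 0) (fun r => A r 1)
    (by simpa using e 0 1) (by simpa using e 1 1) (fun r => A r 2) (by simpa using e 0 2)
    (by simpa using e 1 2) (by simpa using e 2 2)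
  refine ⟨i, fun r => ?_⟩
  obtain ⟨k, hk⟩ := hi r
  refine ⟨k, fun l hl => ?_⟩
  rw [← hk l hl, Matrix.mul_apply]
  refine Finset.sum_congr rfl fun s _ => ?_
  fin_cases s <;> rfl

theorem blk_entry (A B : Mat3) (r c : Fin 3) :
    blk A B (r.castAdd 3) (c.castAdd 3) = A r c ∧ blk A B (r.natAdd 3) (c.natAdd 3) = B r c ∧
      blk A B (r.castAdd 3) (c.natAdd 3) = 0 ∧ blk A B (r.natAdd 3) (c.castAdd 3) = 0 := by
  have hl : ∀ i : Fin 3, finSumFinEquiv.symm (i.castAdd 3) = (Sum.inl i : Fin 3 ⊕ Fin 3) :=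
    fun i => finSumFinEquiv_symm_apply_castAdd i
  have hr : ∀ i : Fin 3, finSumFinEquiv.symm (i.natAdd 3) = (Sum.inr i : Fin 3 ⊕ Fin 3) :=
    fun i => finSumFinEquiv_symm_apply_natAdd i
  simp only [blk, Matrix.reindex_apply, Matrix.submatrix_apply, hl, hr, Matrix.fromBlocks_apply₁₁,
    Matrix.fromBlocks_apply₁₂, Matrix.fromBlocks_apply₂₁, Matrix.fromBlocks_apply₂₂]
  exact ⟨trivial, trivial, rfl, rfl⟩

theorem blk_transpose_mul (A B : Mat3) :
    (blk A B).transpose * (blk A B).map (fun x => x ^ 2) =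
      blk (A.transpose * A.map (fun x => x ^ 2)) (B.transpose * B.map (fun x => x ^ 2)) := by
  have h1 : (blk A B).transpose = blk A.transpose B.transpose := by
    simp [blk, Matrix.fromBlocks_transpose, Matrix.transpose_reindex]
  have h2 : (blk A B).map (fun x => x ^ 2) =
      blk (A.map (fun x => x ^ 2)) (B.map (fun x => x ^ 2)) := by
    refine Matrix.ext fun r c => ?_
    show blk A B r c ^ 2 = _
    refine Fin.addCases (m := 3) (n := 3) (fun i => ?_) (fun i => ?_) r <;>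
      refine Fin.addCases (m := 3) (n := 3) (fun j => ?_) (fun j => ?_) c
    · rw [(blk_entry A B i j).1, (blk_entry _ _ i j).1]; rfl
    · rw [(blk_entry A B i j).2.2.1, (blk_entry _ _ i j).2.2.1, zero_pow two_ne_zero]
    · rw [(blk_entry A B i j).2.2.2, (blk_entry _ _ i j).2.2.2, zero_pow two_ne_zero]
    · rw [(blk_entry A B i j).2.1, (blk_entry _ _ i j).2.1]; rfl
  rw [h1, h2, blk_mul]

theorem blk_one : blk 1 1 = 1 := by
  rw [blk, Matrix.fromBlocks_one, Matrix.reindex_apply, Matrix.submatrix_one_equiv]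

/-- The block diagonal representative. -/
def repG (i j : Fin 4) : ↥SG :=
  toSU (M := blk (Y i) (Y j))
    ((preserves_iff_transpose_mul hK).2 (by
      rw [blk_transpose_mul, (Y_facts i).1, (Y_facts j).1, blk_one]))
    (by rw [det_blk, (Y_facts i).2.1, (Y_facts j).2.1, one_mul])

theorem mat_repG (i j : Fin 4) : mat (repG i j) = blk (Y i) (Y j) := rfl

/-- The odd transposition. -/
def tauG : ↥SG := pmG (Equiv.swap 0 1)

theorem mat_tauG : mat tauG = mono (fun _ => 1) (Equiv.swap 0 1) := rfl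

theorem gen_nine : dM (gC 9) = mat (tauG * repG 1 1) := by
  rw [mat_mul, mat_tauG, mat_repG]
  decide +kernel

/-- The index of the conjugate of the model containing a representative. -/
def cls3 (i j : Fin 3) : Fin 3 := i + j

/-- The diagonal left factor. -/
def leftD (j : Fin 3) : Vec := fun c =>
  if c = 0 then ω₄ ^ ((3 - j.1) % 3) else if c = 3 then ω₄ ^ j.1 else 1

/-- The entries of the right factor. -/
def rightTab : Fin 3 → Fin 3 → Fin 6 → ℕ :=
  ![![![1, 1, 1, 1, 1, 1], ![2, 1, 1, 3, 3, 2], ![3, 1, 1, 2, 2, 3]],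
    ![![1, 2, 3, 1, 1, 1], ![1, 3, 3, 3, 3, 2], ![1, 1, 3, 2, 2, 3]],
    ![![1, 1, 1, 1, 1, 1], ![1, 1, 2, 3, 3, 2], ![1, 1, 3, 2, 2, 3]]]

/-- The permutation of the right factor. -/
def rightP (i j : Fin 3) : Equiv.Perm (Fin 6) :=
  (Equiv.swap 0 1 * Equiv.swap 0 2) ^ i.1 *
    (Equiv.swap 3 4 * Equiv.swap 3 5) ^ ((3 - j.1) % 3)

theorem right_facts : ∀ i j : Fin 3, ∏ c, fe (rightTab i j c) = 1 ∧ ∏ c, leftD j c = 1 := by
  decide +kernel

theorem right_even (i j : Fin 3) : Equiv.Perm.sign (rightP i j) = 1 := by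
  simp only [rightP, map_mul, map_pow,
    Equiv.Perm.sign_swap (show (0 : Fin 6) ≠ 1 by decide),
    Equiv.Perm.sign_swap (show (0 : Fin 6) ≠ 2 by decide),
    Equiv.Perm.sign_swap (show (3 : Fin 6) ≠ 4 by decide),
    Equiv.Perm.sign_swap (show (3 : Fin 6) ≠ 5 by decide)]
  simp

theorem good_ok : ∀ i j : Fin 3,
    mono (fun _ => 1) (Equiv.swap 0 1) * blk (Y i.succ) (Y j.succ) =
      mono (leftD j) 1 * (dl (cls3 i j) * dM (gC 9) * dl (-cls3 i j)) *
        mono (fun c => fe (rightTab i j c)) (rightP i j) := by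
  decide +kernel

/-- The matrix is diagonal. -/
def IsDiag (A : Mat) : Prop := ∀ r c : Fin 6, r = c ∨ A r c = 0

instance (A : Mat) : Decidable (IsDiag A) :=
  @Nat.decidableForallFin 6 (fun r => ∀ c : Fin 6, r = c ∨ A r c = 0) fun _ => inferInstance

theorem bad_zero_left : ∀ j : Fin 3,
    IsDiag (blk (Y 0) (Y j.succ) * blk (Y 0) (Y j.succ) *
      mono (fun _ => 1) (Equiv.swap 4 5)) ∧
    IsDiag (mono (fun _ => 1) (Equiv.swap 0 1) * blk (Y 0) (Y j.succ) *
      (mono (fun _ => 1) (Equiv.swap 0 1) * blk (Y 0) (Y j.succ)) *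
      mono (fun _ => 1) (Equiv.swap 4 5)) := by
  decide +kernel

theorem bad_zero_right : ∀ i : Fin 3,
    IsDiag (blk (Y i.succ) (Y 0) * blk (Y i.succ) (Y 0) *
      mono (fun _ => 1) (Equiv.swap 1 2)) ∧
    IsDiag (mono (fun _ => 1) (Equiv.swap 0 1) * blk (Y i.succ) (Y 0) *
      (mono (fun _ => 1) (Equiv.swap 0 1) * blk (Y i.succ) (Y 0)) *
      mono (fun _ => 1) (Equiv.swap 0 1)) := by
  decide +kernel

theorem bad_both : ∀ i j : Fin 3,
    IsDiag (blk (Y i.succ) (Y j.succ) * mono (dd 2) 1 * blk (Y i.succ) (Y j.succ) *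
      mono (dd 2) 1 * blk (Y i.succ) (Y j.succ) * mono (fun _ => 1) (Equiv.swap 4 5)) := by
  decide +kernel

end Cfsg.Agent.H41.SUSix
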