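import Cfsg.Agent.H41.SUSix.Pull

/-!
A covering subgroup in standard position meets the monomial elements in the monomial group.
-/

set_option autoImplicit false

namespace Cfsg.Agent.H41.SUSix

open Cfsg Cfsg.Agent.H95 Cfsg.Agent.Unitary Matrix

variable {K : Subgroup ↥SG} {C : Cov K}

theorem thetaK_mem_Ebar {g : ↥Kg} (h : thetaK g ∈ Ebar) : (g : ↥SG) ∈ Dgrp := by
  obtain ⟨d, hd, e⟩ := h
  have h1 : thetaK (d⁻¹ * g) = 1 := by rw [map_mul, map_inv, e, inv_mul_cancel]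
  have h2 := scalar_mem_D ((thetaK_eq_one_iff _).1 h1)
  have := mul_mem (show (d : ↥SG) ∈ Dgrp from hd) h2
  rwa [Subgroup.coe_mul, Subgroup.coe_inv, mul_inv_cancel_left] at this

theorem thetaK_mem_Nbar {g : ↥Kg} (h : thetaK g ∈ Nbar) : (g : ↥SG) ∈ Mgrp := by
  obtain ⟨d, hd, e⟩ := h
  have h1 : thetaK (d⁻¹ * g) = 1 := by rw [map_mul, map_inv, e, inv_mul_cancel]
  have h2 := D_le_M (scalar_mem_D ((thetaK_eq_one_iff _).1 h1))
  have := mul_mem (show (d : ↥SG) ∈ Mgrp from hd) h2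
  rwa [Subgroup.coe_mul, Subgroup.coe_inv, mul_inv_cancel_left] at this

theorem Cov.N_normalizes (hC : C.Std) (hD : Dgrp ≤ K) {n : ↥K} (hn : n ∈ C.N) :
    ∀ x ∈ Dgrp, (n : ↥SG)⁻¹ * x * n ∈ Dgrp := by
  intro x hx
  obtain ⟨d, hd, e⟩ := ((hC ⟨x, hD hx⟩).2 hx : C.map ⟨x, hD hx⟩ ∈ Ebar)
  obtain ⟨m, hm, em⟩ := (hn : C.map n ∈ Nbar)
  suffices hE : C.map (n⁻¹ * ⟨x, hD hx⟩ * n) ∈ Ebar by
    have hh := (hC _).1 hE
    rw [Subgroup.coe_mul, Subgroup.coe_mul, Subgroup.coe_inv] at hh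
    exact hh
  rw [map_mul, map_mul, map_inv, ← e, ← em, ← map_inv, ← map_mul, ← map_mul]
  refine Subgroup.mem_map_of_mem _ (Subgroup.mem_subgroupOf.2 ?_)
  rw [Subgroup.coe_mul, Subgroup.coe_mul, Subgroup.coe_inv]
  have := D_conj_M (inv_mem (show (m : ↥SG) ∈ Mgrp from hm)) (show (d : ↥SG) ∈ Dgrp from hd)
  rwa [inv_inv] at this

theorem Cov.N_eq (hC : C.Std) (hD : Dgrp ≤ K) : C.N.map K.subtype = Mgrp := by
  classical
  set N' := C.N.map K.subtype
  have hcard : Nat.card N' = 243 * 360 := by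
    rw [← C.card_N, Nat.card_congr (C.N.equivMapOfInjective _ K.subtype_injective).toEquiv]
  have hmono : ∀ x : N', ∃ d π, mat (x : ↥SG) = mono d π := by
    rintro ⟨_, n, hn, rfl⟩
    exact mono_of_normalizes (C.N_normalizes hC hD hn)
  choose d π h using hmono
  have hne : ∀ x c, d x c ≠ 0 := fun x => ne_zero_of_prod (by
    rw [← det_mono (d x) (π x), ← h x, det_mat])
  let f : N' →* Equiv.Perm (Fin 6) := MonoidHom.mk' π fun a b => by
    have e : mat (((a * b : N')) : ↥SG) = mono (fun c => d a (π b c) * d b c) (π a * π b) := by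
      rw [Subgroup.coe_mul, mat_mul, h, h, mono_mul]
    exact ((mono_inj (hne (a * b)) ((h _).symm.trans e)).2)
  have hker : Nat.card f.ker ≤ 243 := by
    rw [← card_D]
    refine Nat.card_le_card_of_injective
      (fun x => (⟨((x : N') : ↥SG), d x.1, by rw [h]; exact congrArg _ x.2⟩ : Dgrp)) ?_
    intro x y e
    exact Subtype.ext (Subtype.ext (congrArg Subtype.val e : _))
  have hN : ∀ x : N', Equiv.Perm.sign (π x) = 1 := by
    have h1 := Subgroup.card_mul_index f.ker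
    rw [Subgroup.index_ker, hcard] at h1
    have h6 : Nat.card (Equiv.Perm (Fin 6)) = 720 := by
      rw [Nat.card_perm, Nat.card_fin]; decide
    have h2 := Subgroup.card_mul_index f.range
    rw [h6] at h2
    have hge : 360 ≤ Nat.card f.range := by
      by_contra hlt
      push Not at hlt
      nlinarith
    intro x
    rcases (Nat.lt_or_ge f.range.index 2) with hi | hi
    · exfalso
      have hi1 : f.range.index = 1 := by
        have : f.range.index ≠ 0 := Subgroup.index_ne_zero_of_finite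
        omega
      rw [hi1, mul_one] at h2
      have hk : Nat.card f.ker * 720 = 243 * 360 := h2 ▸ h1
      -- then the diagonal group is not contained in the kernel
      have hD' : Nat.card Dgrp ≤ Nat.card f.ker := by
        have hmem : ∀ y : Dgrp, (y : ↥SG) ∈ N' := fun y => ⟨⟨y, hD y.2⟩, by
          obtain ⟨g, hg, e⟩ := ((hC ⟨y, hD y.2⟩).2 y.2 : C.map ⟨y, hD y.2⟩ ∈ Ebar)
          exact ⟨g, D_le_M hg, e⟩, rfl⟩
        refine Nat.card_le_card_of_injective (fun y => (⟨⟨y, hmem y⟩, ?_⟩ : f.ker)) ?_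
        · obtain ⟨e, he⟩ := y.2
          exact ((mono_inj (hne ⟨y, hmem y⟩) ((h _).symm.trans he)).2)
        · intro y z e
          exact Subtype.ext (congrArg (fun w : f.ker => ((w : N') : ↥SG)) e)
      rw [card_D] at hD'
      omega
    · have hi2 : f.range.index = 2 := by
        have : Nat.card f.range * f.range.index = 720 := h2
        nlinarith
      have h3 := Equiv.Perm.eq_alternatingGroup_of_index_eq_two hi2
      exact Equiv.Perm.mem_alternatingGroup.1 (h3 ▸ (⟨x, rfl⟩ : f x ∈ f.range))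
  refine Subgroup.eq_of_le_of_card_ge (fun x hx => ⟨_, _, h ⟨x, hx⟩, hN ⟨x, hx⟩⟩) ?_
  rw [card_M, hcard]

theorem Cov.M_le (hC : C.Std) (hD : Dgrp ≤ K) : Mgrp ≤ K := by
  rw [← C.N_eq hC hD]
  exact Subgroup.map_subtype_le _

theorem Cov.mem_M_iff (hC : C.Std) (hD : Dgrp ≤ K) (x : ↥K) :
    C.map x ∈ Nbar ↔ (x : ↥SG) ∈ Mgrp := by
  rw [← C.N_eq hC hD]
  constructor
  · exact fun h => ⟨x, h, rfl⟩
  · rintro ⟨y, hy, e⟩
    rw [← Subtype.ext (show (y : ↥SG) = x from e)]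
    exact hy

theorem Cov.pm_swap_notMem (hC : C.Std) (hD : Dgrp ≤ K) : pmG (Equiv.swap 0 1) ∉ K := by
  intro h
  obtain ⟨k, hk⟩ : ∃ k : ↥Kg, thetaK k = C.map ⟨_, h⟩ := by
    have : C.map ⟨_, h⟩ ∈ thetaK.range := range_thetaK ▸ C.range_eq ▸ ⟨_, rfl⟩
    exact this
  have hnorm : ∀ x ∈ Dgrp, (k : ↥SG)⁻¹ * x * k ∈ Dgrp := by
    intro x hx
    -- lift the element into the subgroup
    obtain ⟨y, hy⟩ := C.lift (g := ⟨x, D_le_K hx⟩)
    have hyD : (y : ↥SG) ∈ Dgrp := (hC y).1 (hy ▸ ⟨_, hx, rfl⟩)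
    suffices hE : thetaK (k⁻¹ * ⟨x, D_le_K hx⟩ * k) ∈ Ebar by
      have hh := thetaK_mem_Ebar hE
      rw [Subgroup.coe_mul, Subgroup.coe_mul, Subgroup.coe_inv] at hh
      exact hh
    rw [map_mul, map_mul, map_inv, hk, ← hy, ← map_inv, ← map_mul, ← map_mul]
    refine (hC _).2 ?_
    rw [Subgroup.coe_mul, Subgroup.coe_mul, Subgroup.coe_inv]
    obtain ⟨d, hd⟩ := hyD
    refine ⟨fun c => d (Equiv.swap 0 1 c), ?_⟩
    rw [← map_inv, mat_mul, mat_mul, mat_pmG, mat_pmG, hd, mono_mul, mono_mul, mul_one,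
      inv_mul_cancel]
    congr 1
    funext c
    simp
  have hk' : C.map ⟨_, h⟩ ∈ Nbar := hk ▸ ⟨k, mem_M_of_normalizes k.2 hnorm, rfl⟩
  obtain ⟨d, π, e, hs⟩ := (C.mem_M_iff hC hD ⟨_, h⟩).1 hk'
  have := (mono_inj (fun _ => one_ne_zero) ((mat_pmG _).symm.trans e)).2
  rw [← this, Equiv.Perm.sign_swap (by decide)] at hs
  exact absurd hs (by decide)

theorem Cov.mono_mem_M (hC : C.Std) (hD : Dgrp ≤ K) {g : ↥SG} (hg : g ∈ K) {d : Vec}
    {π : Equiv.Perm (Fin 6)} (h : mat g = mono d π) : g ∈ Mgrp :=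
  SUSix.mono_mem_M (C.M_le hC hD) (C.pm_swap_notMem hC hD) hg h

theorem Cov.scalar_of_map_one (hC : C.Std) (hD : Dgrp ≤ K) {z : ↥K} (hz : C.map z = 1) :
    IsScalar (z : ↥SG) :=
  isScalar_of_comm (fun x hx => congrArg Subtype.val (C.central hz ⟨x, hD hx⟩))
    fun _ hπ => congrArg Subtype.val (C.central hz ⟨_, C.M_le hC hD (pmG_mem hπ)⟩)

end Cfsg.Agent.H41.SUSix
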