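import Cfsg.Agent.H41.SUSix.Elts

/-!
A weight vector fixed up to a scalar by a group of order nine of permutations takes two values,
three times each.
-/

set_option autoImplicit false
set_option Elab.async false
set_option maxRecDepth 100000
set_option maxHeartbeats 1000000
set_option synthInstance.maxHeartbeats 400000
set_option synthInstance.maxSize 2000

namespace Cfsg.Agent.H41.SUSix

/-- Permutations of order three fixing the weights up to a constant. -/
def fixThree (d : Fin 6 → Fin 3) : Finset (Equiv.Perm (Fin 6)) :=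
  (Finset.univ : Finset (Equiv.Perm (Fin 6))).filter fun σ =>
    (∀ i, d (σ i) - d i = d (σ 0) - d 0) ∧ σ ≠ 1 ∧ σ * σ * σ = 1

theorem types_ok : ∀ d : Fin 6 → Fin 3, (∀ i : Fin 5, d i.castSucc ≤ d i.succ) →
    (∀ i, d i = d 0) ∨ (d 0 = d 1 ∧ d 0 = d 2 ∧ d 3 = d 4 ∧ d 3 = d 5 ∧ d 0 ≠ d 3) ∨
      ∀ σ ∈ fixThree d, ∀ τ ∈ fixThree d, σ * τ ≠ τ * σ ∨ τ = σ ∨ τ = σ * σ := by
  decide +kernel

end Cfsg.Agent.H41.SUSix
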