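import Cfsg.Agent.H41.SUSix.Std
import Cfsg.Agent.H41.SUSix.Types
import Cfsg.Agent.H41.SUSix.Reps

/-!
A covering subgroup in standard position contains, up to conjugation by a permutation, a
non-monomial block diagonal element.
-/

set_option autoImplicit false
set_option maxHeartbeats 1000000
set_option maxRecDepth 20000

namespace Cfsg.Agent.H41.SUSix

open Cfsg Cfsg.Agent.H95 Cfsg.Agent.Unitary Matrix

/-- The weights of the element of type (3|3). -/
def d33 : Vec := fun c => if c.1 < 3 then ω₄ else 1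

theorem d33_prod : ∏ c, d33 c = 1 := by decide +kernel

/-- The first three-cycle. -/
def p123 : Equiv.Perm (Fin 6) := Equiv.swap 0 2 * Equiv.swap 0 1

/-- The second three-cycle. -/
def p456 : Equiv.Perm (Fin 6) := Equiv.swap 3 5 * Equiv.swap 3 4

theorem p_facts : p123 * p123 * p123 = 1 ∧ p456 * p456 * p456 = 1 ∧ p123 * p456 = p456 * p123 ∧
    p123 ≠ 1 ∧ p456 ≠ p123 ∧ p456 ≠ p123 * p123 ∧ (∀ c, d33 (p123 c) = d33 c) ∧
    (∀ c, d33 (p456 c) = d33 c) ∧
    mono (fun _ => 1) (Equiv.swap 0 1) * blk (Y 1) (Y 1) * mono d33 1 =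
      mono d33 1 * (mono (fun _ => 1) (Equiv.swap 0 1) * blk (Y 1) (Y 1)) ∧
    (mono (fun _ => 1) (Equiv.swap 0 1) * blk (Y 1) (Y 1)) 0 0 ≠ 0 ∧
    (mono (fun _ => 1) (Equiv.swap 0 1) * blk (Y 1) (Y 1)) 1 0 ≠ 0 ∧
    ∃ c, d33 c ≠ d33 0 := by
  decide +kernel

theorem p_even : Equiv.Perm.sign p123 = 1 ∧ Equiv.Perm.sign p456 = 1 := by
  constructor <;> simp [p123, p456, Equiv.Perm.sign_swap]

/-- The logarithm of a field element. -/
def lg3 : K4 → Fin 3
  | .w => 1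
  | .v => 2
  | _ => 0

theorem lg3_facts : (∀ x y : K4, x ≠ 0 → y ≠ 0 → lg3 (x * y) = lg3 x + lg3 y) ∧
    (∀ x y : K4, x ≠ 0 → y ≠ 0 → lg3 x = lg3 y → x = y) := by
  decide +kernel

theorem exists_sort (d : Fin 6 → Fin 3) :
    ∃ g : Equiv.Perm (Fin 6), ∀ i : Fin 5, d (g i.castSucc) ≤ d (g i.succ) :=
  ⟨Tuple.sort d, fun i => Tuple.monotone_sort d (Fin.castSucc_le_succ i)⟩

theorem pattern (d : Fin 6 → Fin 3) (hc : ¬ ∀ i, d i = d 0) (σ τ : Equiv.Perm (Fin 6))
    (a b : Fin 3) (hσ : ∀ i, d (σ i) = d i + a) (hτ : ∀ i, d (τ i) = d i + b)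
    (h1 : σ ≠ 1) (h2 : σ * σ * σ = 1) (h3 : τ ≠ 1) (h4 : τ * τ * τ = 1)
    (h5 : σ * τ = τ * σ) (h6 : τ ≠ σ) (h7 : τ ≠ σ * σ) :
    ∃ g : Equiv.Perm (Fin 6), Equiv.Perm.sign g = 1 ∧ d (g 1) = d (g 0) ∧ d (g 2) = d (g 0) ∧
      d (g 4) = d (g 3) ∧ d (g 5) = d (g 3) ∧ d (g 0) ≠ d (g 3) := by
  obtain ⟨g, hg⟩ := exists_sort d
  have hconj : ∀ (ρ : Equiv.Perm (Fin 6)) (c : Fin 3), (∀ i, d (ρ i) = d i + c) → ρ ≠ 1 →
      ρ * ρ * ρ = 1 → g⁻¹ * ρ * g ∈ fixThree (fun i => d (g i)) := by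
    intro ρ c hρ r1 r2
    rw [fixThree, Finset.mem_filter]
    refine ⟨Finset.mem_univ _, fun i => ?_, ?_, ?_⟩
    · simp [hρ]
    · intro e
      refine r1 ?_
      calc ρ = g * (g⁻¹ * ρ * g) * g⁻¹ := by group
        _ = 1 := by rw [e]; group
    · calc g⁻¹ * ρ * g * (g⁻¹ * ρ * g) * (g⁻¹ * ρ * g) = g⁻¹ * (ρ * ρ * ρ) * g := by group
        _ = 1 := by rw [r2]; group
  rcases types_ok (fun i => d (g i)) hg with h | ⟨e1, e2, e3, e4, e5⟩ | h
  · exfalso
    refine hc fun i => ?_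
    have a1 := h (g⁻¹ i)
    have a2 := h (g⁻¹ 0)
    simp only [Equiv.Perm.inv_def, Equiv.apply_symm_apply] at a1 a2
    exact a1.trans a2.symm
  · rcases Int.units_eq_one_or (Equiv.Perm.sign g) with e | e
    · exact ⟨g, e, e1.symm, e2.symm, e3.symm, e4.symm, e5⟩
    · refine ⟨g * Equiv.swap 0 1, by rw [map_mul, e, Equiv.Perm.sign_swap (by decide)]; rfl, ?_⟩
      simp only [Equiv.Perm.mul_apply, Equiv.swap_apply_left, Equiv.swap_apply_right]
      rw [Equiv.swap_apply_of_ne_of_ne (show (2 : Fin 6) ≠ 0 by decide) (by decide),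
        Equiv.swap_apply_of_ne_of_ne (show (3 : Fin 6) ≠ 0 by decide) (by decide),
        Equiv.swap_apply_of_ne_of_ne (show (4 : Fin 6) ≠ 0 by decide) (by decide),
        Equiv.swap_apply_of_ne_of_ne (show (5 : Fin 6) ≠ 0 by decide) (by decide)]
      exact ⟨e1, e2.symm.trans e1, e3.symm, e4.symm, e1 ▸ e5⟩
  · exfalso
    rcases h _ (hconj σ a hσ h1 h2) _ (hconj τ b hτ h3 h4) with e | e | e
    · exact e (by
        calc g⁻¹ * σ * g * (g⁻¹ * τ * g) = g⁻¹ * (σ * τ) * g := by group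
          _ = g⁻¹ * (τ * σ) * g := by rw [h5]
          _ = _ := by group)
    · exact h6 (by
        calc τ = g * (g⁻¹ * τ * g) * g⁻¹ := by group
          _ = σ := by rw [e]; group)
    · exact h7 (by
        calc τ = g * (g⁻¹ * τ * g) * g⁻¹ := by group
          _ = σ * σ := by rw [e]; group)

variable {K : Subgroup ↥SG} {C : Cov K}

theorem eq_scalar_mul (hC : C.Std) (hD : Dgrp ≤ K) {x y : ↥K} (h : C.map x = C.map y) :
    ∃ c : K4, c ≠ 0 ∧ mat (x : ↥SG) = mono (fun _ => c) 1 * mat (y : ↥SG) := by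
  obtain ⟨c, hc⟩ := C.scalar_of_map_one hC hD (z := x * y⁻¹) (by rw [map_mul, map_inv, h, mul_inv_cancel])
  have hp : ∏ _i : Fin 6, c = 1 := by rw [← det_mono (fun _ => c) 1, ← hc, det_mat]
  refine ⟨c, ne_zero_of_prod hp 0, ?_⟩
  rw [← hc, Subgroup.coe_mul, Subgroup.coe_inv, mat_mul, mul_assoc, mat_inv_left, mul_one]

/-- An element centralising an element of type (3|3) modulo scalars is block diagonal. -/
theorem block_of_comm {x : Mat} (hx : x.det ≠ 0) {d : Vec} {a b z : K4}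
    (hd : ∀ i : Fin 3, d (i.castAdd 3) = a ∧ d (i.natAdd 3) = b) (ha : a ≠ 0) (hb : b ≠ 0)
    (hab : a ≠ b) (hz : z ≠ 0) (h : x * mono d 1 = mono (fun _ => z) 1 * (mono d 1 * x)) :
    ∃ A B : Mat3, x = blk A B := by
  have he : ∀ r c, x r c * d c = z * (d r * x r c) := by
    intro r c
    have h' := congrFun (congrFun h r) c
    rwa [mono_eq_diagonal, mono_eq_diagonal, Matrix.mul_diagonal, Matrix.diagonal_mul,
      Matrix.diagonal_mul] at h'
  have hval : ∀ c : Fin 6, d c = a ∨ d c = b := fun c =>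
    Fin.addCases (m := 3) (n := 3) (fun i => Or.inl (hd i).1) (fun i => Or.inr (hd i).2) c
  have hz1 : z = 1 := by
    by_contra hne
    have key : ∀ a b z : K4, a ≠ 0 → b ≠ 0 → a ≠ b → z ≠ 0 → z ≠ 1 →
        (z * a ≠ a ∧ z * a ≠ b) ∨ (z * b ≠ a ∧ z * b ≠ b) := by decide +kernel
    have zero : ∀ r, z * d r ≠ a → z * d r ≠ b → ∀ c, x r c = 0 := by
      intro r n1 n2 c
      by_contra hxc
      have e : d c = z * d r := mul_left_cancel₀ hxc (by rw [he r c]; ring)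
      rcases hval c with e' | e' <;> rw [e'] at e
      · exact n1 e.symm
      · exact n2 e.symm
    rcases key a b z ha hb hab hz hne with ⟨n1, n2⟩ | ⟨n1, n2⟩
    · refine hx (Matrix.det_eq_zero_of_row_eq_zero ((0 : Fin 3).castAdd 3) (zero _ ?_ ?_)) <;>
        rw [(hd 0).1] <;> assumption
    · refine hx (Matrix.det_eq_zero_of_row_eq_zero ((0 : Fin 3).natAdd 3) (zero _ ?_ ?_)) <;>
        rw [(hd 0).2] <;> assumption
  subst hz1
  have hoff : ∀ r c, d r ≠ d c → x r c = 0 := by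
    intro r c hne
    by_contra hxc
    exact hne (mul_left_cancel₀ hxc (by rw [he r c]; ring))
  refine ⟨Matrix.of fun i j => x (i.castAdd 3) (j.castAdd 3),
    Matrix.of fun i j => x (i.natAdd 3) (j.natAdd 3), Matrix.ext fun r c => ?_⟩
  refine Fin.addCases (m := 3) (n := 3) (fun i => ?_) (fun i => ?_) r <;>
    refine Fin.addCases (m := 3) (n := 3) (fun j => ?_) (fun j => ?_) c
  · rw [(blk_entry _ _ i j).1]; rfl
  · rw [(blk_entry _ _ i j).2.2.1, hoff _ _ (by rw [(hd i).1, (hd j).2]; exact hab)]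
  · rw [(blk_entry _ _ i j).2.2.2, hoff _ _ (by rw [(hd i).2, (hd j).1]; exact hab.symm)]
  · rw [(blk_entry _ _ i j).2.1]; rfl

theorem conj_pm (π : Equiv.Perm (Fin 6)) (d : Vec) :
    mat (pmG π)⁻¹ * mono d 1 * mat (pmG π) = mono (fun c => d (π c)) 1 := by
  rw [← map_inv, mat_pmG, mat_pmG, mono_mul, mono_mul, mul_one, inv_mul_cancel]
  congr 1
  exact funext fun c => by rw [one_mul, mul_one]

/-- A non-monomial block diagonal element of the subgroup. -/
theorem exists_witness (hC : C.Std) (hD : Dgrp ≤ K) :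
    ∃ x : ↥SG, x ∈ K ∧ x ∉ Mgrp ∧ ∃ A B : Mat3, mat x = blk A B := by
  obtain ⟨q1, q2, q3, q4, q5, q6, q7, q8, q9, q10, q11, q12⟩ := p_facts
  have hd1 : diagG d33 d33_prod ∈ Kg := D_le_K (diagG_mem _ _)
  have hx1 : tauG * repG 1 1 ∈ Kg := by
    have e : genG 9 = tauG * repG 1 1 := mat_ext ((mat_genG 9).trans gen_nine)
    exact e ▸ genG_mem 9
  obtain ⟨d, hd⟩ := C.lift (g := (⟨_, hd1⟩ : ↥Kg))
  obtain ⟨dv, hdv⟩ : (d : ↥SG) ∈ Dgrp := (hC d).1 (by
    rw [hd]
    exact ⟨⟨_, hd1⟩, diagG_mem d33 d33_prod, rfl⟩)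
  obtain ⟨x, hx⟩ := C.lift (g := (⟨_, hx1⟩ : ↥Kg))
  have hdn : ∀ c, dv c ≠ 0 := ne_zero_of_prod (by rw [← det_mono dv 1, ← hdv, det_mat])
  have hcyc : ∀ (p : Equiv.Perm (Fin 6)) (hp : Equiv.Perm.sign p = 1), (∀ c, d33 (p c) = d33 c) →
      ∃ (s : ↥K) (e : Vec) (σ : Equiv.Perm (Fin 6)) (a : Fin 3),
        mat (s : ↥SG) = mono e σ ∧ C.map s = thetaK ⟨pmG p, pm_even_mem hp⟩ ∧
          ∀ i, lg3 (dv (σ i)) = lg3 (dv i) + a := by
    intro p hp hfix
    obtain ⟨s, hs⟩ := C.lift (g := (⟨pmG p, pm_even_mem hp⟩ : ↥Kg))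
    obtain ⟨e, σ, he, -⟩ : (s : ↥SG) ∈ Mgrp :=
      (C.mem_M_iff hC hD s).1 (by
        rw [hs]
        exact ⟨⟨pmG p, pm_even_mem hp⟩, pmG_mem hp, rfl⟩)
    have hcomm : C.map (d * s) = C.map (s * d) := by
      rw [map_mul, map_mul, hs, hd, ← map_mul, ← map_mul]
      refine congrArg thetaK (Subtype.ext (mat_ext ?_))
      show mat (diagG d33 d33_prod * pmG p) = mat (pmG p * diagG d33 d33_prod)
      rw [mat_mul, mat_mul, diagG, mat_monoG, mat_pmG, mono_mul, mono_mul, one_mul, mul_one]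
      congr 1
      funext c
      simp [hfix]
    obtain ⟨z, hz, hzz⟩ := eq_scalar_mul hC hD hcomm
    rw [Subgroup.coe_mul, Subgroup.coe_mul, mat_mul, mat_mul, hdv, he, mono_mul, mono_mul,
      mono_mul, one_mul, one_mul, mul_one] at hzz
    have hne : ∀ c, e c ≠ 0 := ne_zero_of_prod (by rw [← det_mono e σ, ← he, det_mat])
    have heq := congrFun (mono_inj (fun c => mul_ne_zero (hdn _) (hne _)) hzz).1
    refine ⟨s, e, σ, lg3 z, he, hs, fun i => ?_⟩
    have h2 : dv (σ i) = dv i * z := by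
      refine mul_right_cancel₀ (hne i) ?_
      have := heq i
      simp only [Equiv.Perm.one_apply] at this
      rw [this]
      ring
    rw [h2, lg3_facts.1 _ _ (hdn i) hz]
  obtain ⟨s, es, σ, a, hs, hsm, hsa⟩ := hcyc p123 p_even.1 q7
  obtain ⟨t, et, τ, b, ht, htm, htb⟩ := hcyc p456 p_even.2 q8
  have nes : ∀ c, es c ≠ 0 := ne_zero_of_prod (by rw [← det_mono es σ, ← hs, det_mat])
  -- relations between the permutations
  have perm_of : ∀ (w : ↥K) (e : Vec) (ρ p : Equiv.Perm (Fin 6)) (hp : Equiv.Perm.sign p = 1),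
      mat (w : ↥SG) = mono e ρ → C.map w = thetaK ⟨pmG p, pm_even_mem hp⟩ → ρ = 1 → p = 1 := by
    intro w e ρ p hp he hm h1
    subst h1
    have hE : C.map w ∈ Ebar := (hC w).2 ⟨e, he⟩
    rw [hm] at hE
    obtain ⟨f, hf⟩ := thetaK_mem_Ebar hE
    exact (mono_inj (fun _ => one_ne_zero) ((mat_pmG p).symm.trans hf)).2
  have one_of : ∀ (w : ↥K) (e : Vec) (ρ : Equiv.Perm (Fin 6)), (∀ c, e c ≠ 0) →
      mat (w : ↥SG) = mono e ρ → C.map w = 1 → ρ = 1 := by
    intro w e ρ hne he hm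
    obtain ⟨c, hc⟩ := C.scalar_of_map_one hC hD hm
    exact (mono_inj hne (he.symm.trans hc)).2
  have mulK : ∀ (u w : ↥K) (e f : Vec) (ρ π : Equiv.Perm (Fin 6)), mat (u : ↥SG) = mono e ρ →
      mat (w : ↥SG) = mono f π →
      mat ((u * w : ↥K) : ↥SG) = mono (fun c => e (π c) * f c) (ρ * π) := by
    intro u w e f ρ π hu hw
    rw [Subgroup.coe_mul, mat_mul, hu, hw, mono_mul]
  have prodne : ∀ (w : ↥K) (e : Vec) (ρ : Equiv.Perm (Fin 6)), mat (w : ↥SG) = mono e ρ →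
      ∀ c, e c ≠ 0 := fun w e ρ h => ne_zero_of_prod (by rw [← det_mono e ρ, ← h, det_mat])
  have mapp : ∀ (p q : Equiv.Perm (Fin 6)) (hp : pmG p ∈ Kg) (hq : pmG q ∈ Kg),
      thetaK ⟨pmG p, hp⟩ * thetaK ⟨pmG q, hq⟩ =
        thetaK ⟨pmG (p * q), by rw [map_mul]; exact mul_mem hp hq⟩ := by
    intro p q hp hq
    rw [← map_mul]
    exact congrArg thetaK (Subtype.ext (map_mul pmG p q).symm)
  have h3σ : σ * σ * σ = 1 := by
    have hm := mulK _ _ _ _ _ _ (mulK _ _ _ _ _ _ hs hs) hs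
    refine one_of _ _ _ (prodne _ _ _ hm) hm ?_
    rw [map_mul, map_mul, hsm, mapp, mapp, ← map_one thetaK]
    exact congrArg thetaK (Subtype.ext (by rw [Subgroup.coe_one]; simp [q1]))
  have h3τ : τ * τ * τ = 1 := by
    have hm := mulK _ _ _ _ _ _ (mulK _ _ _ _ _ _ ht ht) ht
    refine one_of _ _ _ (prodne _ _ _ hm) hm ?_
    rw [map_mul, map_mul, htm, mapp, mapp, ← map_one thetaK]
    exact congrArg thetaK (Subtype.ext (by rw [Subgroup.coe_one]; simp [q2]))
  have hcomm : σ * τ = τ * σ := by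
    have hm : C.map (s * t) = C.map (t * s) := by
      rw [map_mul, map_mul, hsm, htm, mapp, mapp]
      exact congrArg thetaK (Subtype.ext (by simp [q3]))
    obtain ⟨z, hz, e⟩ := eq_scalar_mul hC hD hm
    rw [mulK _ _ _ _ _ _ hs ht, mulK _ _ _ _ _ _ ht hs, mono_mul, one_mul] at e
    exact (mono_inj (fun c => mul_ne_zero (nes _) (prodne _ _ _ ht c)) e).2
  have hσ1 : σ ≠ 1 := fun e => q4 (perm_of s es σ p123 p_even.1 hs hsm e)
  have hτ1 : τ ≠ 1 := fun e => by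
    have := perm_of t et τ p456 p_even.2 ht htm e
    exact q6 (by rw [this] at q2 ⊢; exact absurd (this) (by decide +kernel))
  have hτσ : τ ≠ σ := fun e => by
    -- then the product with the square is trivial
    have hm : C.map (t * (s * s)) = thetaK ⟨pmG (p456 * (p123 * p123)),
        pm_even_mem (by simp [p_even.1, p_even.2])⟩ := by
      rw [map_mul, map_mul, hsm, htm, mapp, mapp]
    have h' := perm_of _ _ _ (p456 * (p123 * p123)) (by simp [p_even.1, p_even.2])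
      (mulK _ _ _ _ _ _ ht (mulK _ _ _ _ _ _ hs hs)) hm
      (by rw [e, ← mul_assoc, h3σ])
    exact q5 (by
      calc p456 = p456 * (p123 * p123 * p123) := by rw [q1, mul_one]
        _ = p456 * (p123 * p123) * p123 := by group
        _ = p123 := by rw [h', one_mul])
  have hτσ2 : τ ≠ σ * σ := fun e => by
    have hm : C.map (t * s) = thetaK ⟨pmG (p456 * p123),
        pm_even_mem (by simp [p_even.1, p_even.2])⟩ := by
      rw [map_mul, hsm, htm, mapp]
    have h' := perm_of _ _ _ (p456 * p123) (by simp [p_even.1, p_even.2])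
      (mulK _ _ _ _ _ _ ht hs) hm (by rw [e, h3σ])
    exact q6 (by
      calc p456 = p456 * (p123 * p123 * p123) := by rw [q1, mul_one]
        _ = p456 * p123 * (p123 * p123) := by group
        _ = p123 * p123 := by rw [h', one_mul])
  have hnc : ¬ ∀ i, lg3 (dv i) = lg3 (dv 0) := by
    intro hcst
    have hsc : IsScalar (d : ↥SG) := ⟨dv 0, by
      rw [hdv]
      congr 1
      exact funext fun i => lg3_facts.2 _ _ (hdn i) (hdn 0) (hcst i)⟩
    have h1 : C.map d = 1 := by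
      have hm : d ∈ Subgroup.center ↥K := by
        rw [Subgroup.mem_center_iff]
        exact fun y => Subtype.ext (Subgroup.mem_center_iff.1 (scalar_mem_center hsc) y.1)
      exact MonoidHom.mem_ker.1 (C.ker_eq.symm ▸ hm)
    rw [hd, thetaK_eq_one_iff] at h1
    obtain ⟨c, hc⟩ := h1
    obtain ⟨i, hi⟩ := q12
    have e := (mono_inj (ne_zero_of_prod d33_prod) ((mat_monoG d33 1 d33_prod).symm.trans hc)).1
    exact hi (by rw [e])
  obtain ⟨g, hg, e1, e2, e4, e5, e03⟩ :=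
    pattern (fun i => lg3 (dv i)) hnc σ τ a b hsa htb hσ1 h3σ hτ1 h3τ hcomm hτσ hτσ2
  have hxd : C.map (x * d) = C.map (d * x) := by
    rw [map_mul, map_mul, hx, hd, ← map_mul, ← map_mul]
    refine congrArg thetaK (Subtype.ext (mat_ext ?_))
    show mat (tauG * repG 1 1 * diagG d33 d33_prod) =
      mat (diagG d33 d33_prod * (tauG * repG 1 1))
    rw [mat_mul, mat_mul, mat_mul, mat_tauG, mat_repG, diagG, mat_monoG]
    exact q9
  obtain ⟨z, hz, hzz⟩ := eq_scalar_mul hC hD hxd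
  rw [Subgroup.coe_mul, Subgroup.coe_mul, mat_mul, mat_mul, hdv] at hzz
  have hgM : pmG g ∈ K := C.M_le hC hD (pmG_mem hg)
  refine ⟨(pmG g)⁻¹ * x * pmG g, mul_mem (mul_mem (inv_mem hgM) x.2) hgM, ?_, ?_⟩
  · intro hm
    have hxM : (x : ↥SG) ∈ Mgrp := by
      have := mul_mem (mul_mem (pmG_mem hg) hm) (inv_mem (pmG_mem hg))
      have e : pmG g * ((pmG g)⁻¹ * x * pmG g) * (pmG g)⁻¹ = (x : ↥SG) := by group
      rwa [e] at this
    have h' := (C.mem_M_iff hC hD x).2 hxM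
    rw [hx] at h'
    obtain ⟨e, π, he, -⟩ := thetaK_mem_Nbar h'
    have he' : mono (fun _ => 1) (Equiv.swap 0 1) * blk (Y 1) (Y 1) = mono e π := by
      rw [← mat_tauG, ← mat_repG, ← mat_mul]; exact he
    rw [he', mono_apply] at q10 q11
    split_ifs at q10 q11 with h0 h1
    · exact absurd (h1.trans h0.symm) (by decide)
    all_goals first | exact q11 rfl | exact q10 rfl
  · refine block_of_comm (d := fun c => dv (g c)) (a := dv (g 0)) (b := dv (g 3))
      (z := z) (by rw [det_mat]; exact one_ne_zero) ?_ (hdn _) (hdn _)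
      (fun e => e03 (congrArg lg3 e)) hz ?_
    · have eq : ∀ i j : Fin 6, lg3 (dv (g i)) = lg3 (dv (g j)) → dv (g i) = dv (g j) :=
        fun i j h => lg3_facts.2 _ _ (hdn _) (hdn _) h
      intro i
      fin_cases i
      · exact ⟨rfl, rfl⟩
      · exact ⟨eq 1 0 e1, eq 4 3 e4⟩
      · exact ⟨eq 2 0 e2, eq 5 3 e5⟩
    · rw [mat_mul, mat_mul, ← conj_pm g dv]
      have hi := mat_inv_right (pmG g)
      have hsc : ∀ Z : Mat, mono (fun _ => z) 1 * Z = Z * mono (fun _ => z) 1 := fun Z => by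
        rw [mono_eq_diagonal, ← Matrix.smul_one_eq_diagonal]
        simp
      calc mat (pmG g)⁻¹ * mat (x : ↥SG) * mat (pmG g) *
            (mat (pmG g)⁻¹ * mono dv 1 * mat (pmG g))
          = mat (pmG g)⁻¹ * (mat (x : ↥SG) * (mat (pmG g) * mat (pmG g)⁻¹) * mono dv 1) *
              mat (pmG g) := by simp only [mul_assoc]
        _ = mat (pmG g)⁻¹ * (mono (fun _ => z) 1 * (mono dv 1 * mat (x : ↥SG))) * mat (pmG g) := by
            rw [hi, mul_one, hzz]
        _ = mono (fun _ => z) 1 * (mat (pmG g)⁻¹ * (mono dv 1 * mat (x : ↥SG)) * mat (pmG g)) := by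
            rw [← mul_assoc (mat (pmG g)⁻¹) (mono (fun _ => z) 1), ← hsc (mat (pmG g)⁻¹)]
            simp only [mul_assoc]
        _ = mono (fun _ => z) 1 * (mat (pmG g)⁻¹ * (mono dv 1 * (mat (pmG g) * mat (pmG g)⁻¹) *
              mat (x : ↥SG)) * mat (pmG g)) := by rw [hi, mul_one]
        _ = _ := by simp only [mul_assoc]

end Cfsg.Agent.H41.SUSix
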